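import Cfsg.Agent.Solvable.SchurZassenhaus

/-!
# Consequences of the odd order theorem, with the theorem as a hypothesis

`OddSolvable` is the statement of S0205 at one universe; every module `Cfsg.Agent.FT.*` takes it as
an explicit argument, to be supplied as `fun K _ _ h => Cfsg.Agent.S0205.result h`.
-/

set_option autoImplicit false

namespace CfsgLib.FT

universe u

/-- Every finite group of odd order is solvable. -/
def OddSolvable : Prop :=
  ∀ (K : Type u) [Group K] [Finite K], Odd (Nat.card K) → Group.IsSolvable K

variable {G : Type u} [Group G] [Finite G]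

/-- One of two groups of coprime orders is solvable. -/
theorem OddSolvable.isSolvable_or (hodd : OddSolvable.{u}) {A B : Type u} [Group A] [Group B]
    [Finite A] [Finite B] (h : (Nat.card A).Coprime (Nat.card B)) :
    Group.IsSolvable A ∨ Group.IsSolvable B := by
  rcases Nat.even_or_odd (Nat.card A) with hA | hA
  · rcases Nat.even_or_odd (Nat.card B) with hB | hB
    · exact absurd (Nat.eq_one_of_dvd_coprimes h hA.two_dvd hB.two_dvd) (by norm_num)
    · exact Or.inr (hodd B hB)
  · exact Or.inl (hodd A hA)

open scoped Pointwise in
/-- Schur–Zassenhaus, conjugacy and dominance, without solvability hypothesis. -/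
theorem exists_conj_le_of_coprime (hodd : OddSolvable.{u}) {N H U : Subgroup G} [N.Normal]
    (hH : Subgroup.IsComplement' N H) (hHN : (Nat.card H).Coprime (Nat.card N))
    (hU : (Nat.card U).Coprime (Nat.card N)) :
    ∃ n ∈ N, MulAut.conj n • U ≤ H := by
  refine Solvable.exists_conj_le_of_coprime ?_ hH hU
  refine (hodd.isSolvable_or (A := N) (B := G ⧸ N) ?_)
  rw [← Subgroup.index_eq_card, ← Solvable.card_eq_index_of_isComplement' hH]
  exact hHN.symm

end CfsgLib.FT
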