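import Cfsg.Agent.FT.Basic
import Cfsg.Agent.FusionMetacyclic.Fusion
import Cfsg.Agent.Fusion.Realized
import Cfsg.Agent.Transfer.Tate
import Cfsg.Agent.S0949
import Cfsg.Agent.SolvCrit.AbelianMaximal
import Cfsg.Agent.PLocal.Cores
import Mathlib.GroupTheory.Transfer

/-!
# Metacyclic Sylow 2-subgroups with a large cyclic quotient (S4418), from the odd order theorem
-/

set_option autoImplicit false
set_option linter.style.haveILetI false

namespace CfsgLib.FT

open Subgroup

universe u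

variable {G : Type u} [Group G] [Finite G]

theorem isSolvable_of_hasNormalTwoComplement (hodd : OddSolvable.{u})
    (h : Cfsg.HasNormalPComplement 2 G) : Group.IsSolvable G := by
  haveI : Fact (Nat.Prime 2) := ⟨Nat.prime_two⟩
  obtain ⟨P, N, hN, hc⟩ := h
  haveI := hN
  have hNodd : Odd (Nat.card N) := by
    rw [← hc.index_eq_card, ← Nat.not_even_iff_odd, even_iff_two_dvd]
    exact P.not_dvd_index
  refine SolvCrit.isSolvable_of_normal_of_quotient N (hodd N hNodd) ?_
  haveI : Group.IsNilpotent (G ⧸ N) := by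
    obtain ⟨k, hk⟩ := IsPGroup.iff_card.1 P.2
    exact (IsPGroup.of_card (p := 2) (n := k)
      (by rw [← Subgroup.index_eq_card, hc.symm.index_eq_card, hk])).isNilpotent
  infer_instance

omit [Finite G] in
/-- A cyclic group all of whose elements square to one has order at most two. -/
theorem card_le_two_of_sq {Q : Type*} [Group Q] [IsCyclic Q] (h : ∀ x : Q, x ^ 2 = 1) :
    Nat.card Q ≤ 2 := by
  obtain ⟨g, hg⟩ := IsCyclic.exists_generator (α := Q)
  rw [← orderOf_eq_card_of_forall_mem_zpowers hg]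
  exact Nat.le_of_dvd two_pos (orderOf_dvd_of_pow_eq_one (h g))

section Quotient

variable {S Q : Type*} [Group S] [Group Q] (hQ : ∀ a b : Q, a * b = b * a) (f : S →* Q)
include hQ

theorem map_sq_one_of_dihedral {m : ℕ} (e : S ≃* DihedralGroup m) (x : S) : f x ^ 2 = 1 := by
  let φ : DihedralGroup m →* Q := f.comp e.symm.toMonoidHom
  have hs : ∀ i, φ (DihedralGroup.sr i) ^ 2 = 1 := fun i => by
    rw [← map_pow, pow_two, DihedralGroup.sr_mul_self, map_one]
  suffices h : ∀ y, φ y ^ 2 = 1 by simpa [φ] using h (e x)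
  rintro (i | i)
  · have : DihedralGroup.r i = DihedralGroup.sr 0 * DihedralGroup.sr i := by simp
    rw [this, map_mul, Commute.mul_pow (hQ _ _), hs, hs, one_mul]
  · exact hs i

theorem map_sq_one_of_quaternion {m : ℕ} (hm : Even m) (e : S ≃* QuaternionGroup m) (x : S) :
    f x ^ 2 = 1 := by
  let φ : QuaternionGroup m →* Q := f.comp e.symm.toMonoidHom
  have hxa : ∀ i, φ (QuaternionGroup.xa i) ^ 2 = φ (QuaternionGroup.a m) := fun i => by
    rw [← map_pow, QuaternionGroup.xa_sq]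
  have ha : ∀ i, φ (QuaternionGroup.a i) ^ 2 = 1 := fun i => by
    have : QuaternionGroup.a i = (QuaternionGroup.xa 0)⁻¹ * QuaternionGroup.xa i := by
      rw [eq_inv_mul_iff_mul_eq]; simp
    rw [this, map_mul, map_inv, Commute.mul_pow (hQ _ _), inv_pow, hxa, hxa, inv_mul_cancel]
  have hc : φ (QuaternionGroup.a m) = 1 := by
    obtain ⟨k, rfl⟩ := hm
    rw [show QuaternionGroup.a ((k + k : ℕ) : ZMod (2 * (k + k))) =
        (QuaternionGroup.a (k : ZMod (2 * (k + k)))) ^ 2 by simp [pow_two],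
      map_pow, ha]
  suffices h : ∀ y, φ y ^ 2 = 1 by simpa [φ] using h (e x)
  rintro (i | i)
  · exact ha i
  · rw [hxa, hc]

theorem map_sq_one_of_quasiDihedral [Finite S] (h : Cfsg.IsQuasiDihedral S) (z : S) :
    f z ^ 2 = 1 := by
  obtain ⟨n, hn, hcard, x, y, hx, hy, hrel⟩ := h
  have hfy : f y ^ 2 = 1 := by rw [← map_pow, ← hy, pow_orderOf_eq_one, map_one]
  have hfx : f x ^ 2 = 1 := by
    have hX : f x = f x ^ (2 ^ (n - 1) - 1) := by
      rw [← map_pow, ← hrel, map_mul, map_mul, map_inv, hQ (f y), mul_inv_cancel_right]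
    have h1 : orderOf (f x) ∣ 2 ^ (n - 1) - 2 := by
      apply orderOf_dvd_of_pow_eq_one
      have h4 : 2 ≤ 2 ^ (n - 1) := Nat.le_self_pow (by omega) 2
      have h5 : f x ^ (2 ^ (n - 1) - 2) * f x = 1 * f x := by
        rw [← pow_succ, show 2 ^ (n - 1) - 2 + 1 = 2 ^ (n - 1) - 1 by omega, one_mul]
        exact hX.symm
      exact mul_right_cancel h5
    obtain ⟨j, hj, hoj⟩ := (Nat.dvd_prime_pow Nat.prime_two).1
      ((orderOf_map_dvd f x).trans hx.dvd)
    rw [hoj] at h1
    have hj1 : j ≤ 1 := by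
      by_contra hj2
      have h4 : 4 ∣ 2 ^ (n - 1) - 2 := (pow_dvd_pow 2 (show 2 ≤ j by omega)).trans h1
      have h5 : 4 ∣ 2 ^ (n - 1) := pow_dvd_pow 2 (show 2 ≤ n - 1 by omega)
      have h6 : 2 ≤ 2 ^ (n - 1) := Nat.le_self_pow (by omega) 2
      omega
    exact orderOf_dvd_iff_pow_eq_one.1 (hoj ▸ (pow_dvd_pow 2 hj1).trans (pow_one 2).dvd)
  let H : Subgroup S :=
    { carrier := {w | f w ^ 2 = 1}
      one_mem' := by simp
      mul_mem' := fun {a b} ha hb => by
        show f (a * b) ^ 2 = 1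
        rw [map_mul, Commute.mul_pow (hQ _ _), ha, hb, one_mul]
      inv_mem' := fun {a} ha => by
        show f a⁻¹ ^ 2 = 1
        rw [map_inv, inv_pow, ha, inv_one] }
  have hne : y ∉ zpowers x := by
    intro hyx
    obtain ⟨k, rfl⟩ := mem_zpowers_iff.1 hyx
    rw [((Commute.refl x).zpow_left k).eq, mul_inv_cancel_right] at hrel
    have h4 : x ^ (2 ^ (n - 1) - 2) = 1 := by
      have h6 : 2 ≤ 2 ^ (n - 1) := Nat.le_self_pow (by omega) 2
      have h5 : x ^ (2 ^ (n - 1) - 2) * x = 1 * x := by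
        rw [← pow_succ, show 2 ^ (n - 1) - 2 + 1 = 2 ^ (n - 1) - 1 by omega, one_mul]
        exact hrel.symm
      exact mul_right_cancel h5
    have h7 := Nat.le_of_dvd ?_ (hx ▸ orderOf_dvd_of_pow_eq_one h4)
    · have : 2 ^ (n - 1) ≤ 2 ^ n := Nat.pow_le_pow_right two_pos (by omega)
      have := Nat.le_self_pow (show n - 1 ≠ 0 by omega) 2
      omega
    · have : 2 ^ 2 ≤ 2 ^ (n - 1) := Nat.pow_le_pow_right two_pos (by omega)
      omega
  have hxH : zpowers x ≤ H := zpowers_le.2 hfx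
  have hlt : zpowers x < H := lt_of_le_of_ne hxH fun e => hne (e ▸ (show y ∈ H from hfy))
  obtain ⟨j, hj⟩ := Subgroup.card_dvd_of_le hxH
  rw [Nat.card_zpowers, hx] at hj
  have htop : H = ⊤ := by
    refine Subgroup.eq_top_of_card_eq _ (le_antisymm (Subgroup.card_le_card_group _) ?_)
    rw [hcard, hj, pow_succ]
    refine Nat.mul_le_mul_left _ ?_
    by_contra hj2
    rcases (show j = 0 ∨ j = 1 by omega) with rfl | rfl
    · exact Nat.card_pos.ne' (hj.trans (mul_zero _))
    · refine hlt.ne (Subgroup.eq_of_le_of_card_ge hxH ?_)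
      rw [hj, mul_one, Nat.card_zpowers, hx]
  exact htop.ge (Subgroup.mem_top z)

end Quotient

/-- S4418. -/
theorem isSolvable_of_metacyclic_sylow (hodd : OddSolvable.{u}) (S : Sylow 2 G)
    (N : Subgroup ↥(S : Subgroup G)) [hN : N.Normal] (hNc : IsCyclic N)
    (hQc : IsCyclic (↥(S : Subgroup G) ⧸ N))
    (hQ : 2 < Nat.card (↥(S : Subgroup G) ⧸ N)) : Group.IsSolvable G := by
  haveI : Fact (Nat.Prime 2) := ⟨Nat.prime_two⟩
  haveI := hQc
  have h2G : 2 ∣ Nat.card G := by
    refine dvd_trans ?_ (card_subgroup_dvd_card (S : Subgroup G))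
    refine dvd_trans ?_ (N.index_dvd_card)
    obtain ⟨k, hk⟩ := S.2.index N
    rw [hk]
    refine dvd_pow_self 2 ?_
    rintro rfl
    rw [← Subgroup.index_eq_card, hk] at hQ
    omega
  by_cases hcyc : IsCyclic ↥(S : Subgroup G)
  · refine isSolvable_of_hasNormalTwoComplement hodd ⟨S, _, ?_,
      MonoidHom.ker_transferSylow_isComplement' S
        (IsCyclic.normalizer_le_centralizer ((Nat.minFac_eq_two_iff _).2 h2G) hcyc)⟩
    infer_instance
  have hnsq : ¬ ∀ x : ↥(S : Subgroup G), QuotientGroup.mk' N x ^ 2 = 1 := fun h => by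
    have h1 : ∀ q : ↥(S : Subgroup G) ⧸ N, q ^ 2 = 1 := fun q => by
      obtain ⟨x, rfl⟩ := QuotientGroup.mk'_surjective N q
      exact h x
    exact absurd (card_le_two_of_sq h1) (not_le.2 hQ)
  have hQab : ∀ a b : ↥(S : Subgroup G) ⧸ N, a * b = b * a := hQc.isMulCommutative.is_comm.comm
  have hm : Cfsg.IsMetacyclic ↥(S : Subgroup G) := ⟨N, hN, hNc, hQc⟩
  have hd : ¬ ∃ m : ℕ, Nonempty (↥(S : Subgroup G) ≃* DihedralGroup m) := by
    rintro ⟨m, ⟨e⟩⟩
    exact hnsq (map_sq_one_of_dihedral hQab _ e)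
  have hq : ¬ ∃ m : ℕ, Nonempty (↥(S : Subgroup G) ≃* QuaternionGroup m) := by
    rintro ⟨m, ⟨e⟩⟩
    rcases Nat.even_or_odd m with hme | hmo
    · exact hnsq (map_sq_one_of_quaternion hQab _ hme e)
    · haveI : NeZero m := ⟨hmo.pos.ne'⟩
      obtain ⟨k, hk⟩ := IsPGroup.iff_card.1 S.2
      rw [Nat.card_congr e.toEquiv, Nat.card_eq_fintype_card, QuaternionGroup.card] at hk
      obtain ⟨j, -, hj⟩ := (Nat.dvd_prime_pow Nat.prime_two).1 (Dvd.intro_left 4 hk)
      rcases j with _ | j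
      · rw [pow_zero] at hj
        subst hj
        exact hcyc (e.isCyclic.2 QuaternionGroup.quaternionGroup_one_isCyclic)
      · exact Nat.not_even_iff_odd.2 hmo (hj ▸ (Nat.even_pow.2 ⟨even_two, Nat.succ_ne_zero j⟩))
  have hsd : ¬ Cfsg.IsQuasiDihedral ↥(S : Subgroup G) :=
    fun h => hnsq (map_sq_one_of_quasiDihedral hQab _ h)
  by_cases hh : ∃ n k : ℕ, Nonempty (↥(S : Subgroup G) ≃* Multiplicative (Fin k → ZMod (2 ^ n)))
  · obtain ⟨n, k, ⟨e⟩⟩ := hh
    haveI : NeZero (2 ^ n) := ⟨(pow_pos two_pos n).ne'⟩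
    have hexp : ∀ x : ↥(S : Subgroup G), x ^ 2 ^ n = 1 := fun x => e.injective (by
      rw [map_pow, map_one]
      refine Multiplicative.toAdd.injective (funext fun i => ?_)
      simp)
    have hQn : Nat.card (↥(S : Subgroup G) ⧸ N) ≤ 2 ^ n := by
      obtain ⟨g, hg⟩ := hQc.exists_generator
      rw [← orderOf_eq_card_of_forall_mem_zpowers hg]
      obtain ⟨x, rfl⟩ := QuotientGroup.mk'_surjective N g
      exact Nat.le_of_dvd (pow_pos two_pos n) (orderOf_dvd_of_pow_eq_one (by
        rw [← map_pow, hexp, map_one]))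
    have hNn : Nat.card N ≤ 2 ^ n := by
      obtain ⟨g, hg⟩ := hNc.exists_generator
      rw [← orderOf_eq_card_of_forall_mem_zpowers hg]
      exact Nat.le_of_dvd (pow_pos two_pos n) (orderOf_dvd_of_pow_eq_one
        (Subtype.ext (by rw [SubmonoidClass.coe_pow, hexp]; rfl)))
    have hcard : Nat.card ↥(S : Subgroup G) = (2 ^ n) ^ k := by
      rw [Nat.card_congr e.toEquiv, Nat.card_congr (Multiplicative.toAdd), Nat.card_fun,
        Nat.card_zmod, Nat.card_eq_fintype_card, Fintype.card_fin]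
    have hn : 2 ≤ n := by
      by_contra hn
      have h4 : 2 ^ n ≤ 2 ^ 1 := Nat.pow_le_pow_right two_pos (by omega)
      omega
    have hk2 : k = 2 := by
      have h2n : 1 < 2 ^ n := Nat.one_lt_two_pow (by omega)
      have hle : (2 ^ n) ^ k ≤ (2 ^ n) ^ 2 := by
        rw [← hcard, N.card_eq_card_quotient_mul_card_subgroup, pow_two]
        exact Nat.mul_le_mul hQn hNn
      have hk' : k ≤ 2 := (Nat.pow_le_pow_iff_right h2n).1 hle
      by_contra hk
      apply hcyc
      refine e.isCyclic.2 ?_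
      interval_cases k
      · infer_instance
      · exact isCyclic_multiplicative_iff.2
          ((AddEquiv.piUnique fun _ : Fin 1 => ZMod (2 ^ n)).isAddCyclic.2 inferInstance)
      · exact absurd rfl hk
    subst hk2
    -- Brauer
    let K := Cfsg.pPrimeCore 2 G
    have hKodd : Odd (Nat.card K) :=
      Nat.coprime_two_right.1 (CfsgLib.PLocal.coprime_card_pPrimeCore 2 G)
    let S' : Sylow 2 (G ⧸ K) := S.mapSurjective (QuotientGroup.mk'_surjective K)
    have hinj : Function.Injective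
        ((QuotientGroup.mk' K).comp (S : Subgroup G).subtype) := by
      rw [injective_iff_map_eq_one]
      intro x hx
      have hxK : (x : G) ∈ K := (QuotientGroup.eq_one_iff _).1 hx
      obtain ⟨j, hj⟩ := IsPGroup.iff_orderOf.1 S.2 x
      rw [← orderOf_eq_one_iff]
      refine Nat.eq_one_of_dvd_coprimes (Nat.Coprime.pow_left j (Nat.coprime_two_left.2 hKodd))
        hj.dvd ?_
      rw [← Subgroup.orderOf_coe]
      exact Subgroup.orderOf_mk (x : G) hxK ▸ orderOf_dvd_natCard _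
    have hrange : ((QuotientGroup.mk' K).comp (S : Subgroup G).subtype).range = (S' : Subgroup (G ⧸ K)) := by
      rw [MonoidHom.range_comp, range_subtype, Sylow.coe_mapSurjective]
    let eS : ↥(S' : Subgroup (G ⧸ K)) ≃* Multiplicative (ZMod (2 ^ n) × ZMod (2 ^ n)) :=
      ((MonoidHom.ofInjective hinj).trans (MulEquiv.subgroupCongr hrange)).symm.trans
        (e.trans (AddEquiv.toMultiplicative
          { (piFinTwoEquiv fun _ => ZMod (2 ^ n)) with map_add' := fun _ _ => rfl }))
    have hO : ∀ M : Subgroup (G ⧸ K), M.Normal → Odd (Nat.card M) → M = ⊥ := by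
      intro M hM hMo
      have h1 : M ≤ Cfsg.pPrimeCore 2 (G ⧸ K) := le_sSup ⟨hM, Nat.coprime_two_right.2 hMo⟩
      rwa [CfsgLib.PLocal.pPrimeCore_quotient_pPrimeCore_eq_bot, le_bot_iff] at h1
    obtain ⟨hnS, -, hidx⟩ := Cfsg.Agent.S0949.result S' n hn eS hO
    refine SolvCrit.isSolvable_of_normal_of_quotient K (hodd K hKodd) ?_
    haveI := hnS
    haveI : Group.IsNilpotent ↥(S' : Subgroup (G ⧸ K)) := S'.2.isNilpotent
    refine SolvCrit.isSolvable_of_normal_of_quotient (S' : Subgroup (G ⧸ K)) inferInstance ?_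
    refine hodd _ ?_
    rw [← Subgroup.index_eq_card]
    rcases hidx with h | h <;> rw [h] <;> decide
  · refine isSolvable_of_hasNormalTwoComplement hodd
      (CfsgLib.Transfer.hasNormalPComplement_of_controlsFusion_self S fun x hx g hg => ?_)
    let P := zpowers x
    let φ : P →* G := (MulAut.conj g).toMonoidHom.comp P.subtype
    have hφ : φ ∈ (Cfsg.groupFusionSystem (S : Subgroup G)).Hom P := by
      refine ⟨zpowers_le.2 hx, fun y => ?_, g, fun y => rfl⟩
      obtain ⟨j, hj⟩ := mem_zpowers_iff.1 y.2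
      show MulAut.conj g (y : G) ∈ (S : Subgroup G)
      rw [← hj, map_zpow]
      exact zpow_mem (by simpa using hg) j
    rw [CfsgLib.FusionMetacyclic.hom_eq_inner S.2 (CfsgLib.Fusion.isSaturated_groupFusion S) hm hh
      hd hq hsd P] at hφ
    obtain ⟨-, z, hz, hzx⟩ := hφ
    exact ⟨z, hz, (hzx ⟨x, mem_zpowers x⟩).symm⟩

end CfsgLib.FT
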