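import Cfsg.Agent.FT.Basic
import Cfsg.Agent.IsolatedP.Basic
import Cfsg.Agent.PLocal.Cores
import Cfsg.Agent.Coprime.Action
import Cfsg.Agent.ZStar.Theorem
import Cfsg.Prelude.Def_IsolatedElements

/-!
# Isolated 2-elements are central modulo the odd core; S2962 from the odd order theorem
-/

set_option autoImplicit false
set_option linter.style.haveILetI false

namespace CfsgLib.FT

open Subgroup
open scoped commutatorElement

universe u

/-- Glauberman's Z*-theorem for isolated elements of 2-power order. -/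
theorem isolated_two_central (n : ℕ) : ∀ (G : Type u) [Group G] [Finite G], Nat.card G ≤ n →
    ∀ (t : G), Cfsg.IsIsolated t → (∃ k : ℕ, orderOf t = 2 ^ k) → Cfsg.InZStar 2 t := by
  induction n with
  | zero => intro G _ _ h; exact absurd h (Nat.not_le.2 Nat.card_pos)
  | succ n ih =>
    intro G _ _ hcard t hiso hord
    haveI : Fact (Nat.Prime 2) := ⟨Nat.prime_two⟩
    -- the quotient by a nontrivial normal subgroup
    have hquot : ∀ (K : Subgroup G) [K.Normal], K ≠ ⊥ → ∀ g : G,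
        (QuotientGroup.mk (g * t * g⁻¹ * t⁻¹) : G ⧸ K) ∈ Cfsg.pPrimeCore 2 (G ⧸ K) := by
      intro K _ hK g
      have hlt : Nat.card (G ⧸ K) < Nat.card G := by
        rw [K.card_eq_card_quotient_mul_card_subgroup]
        exact lt_mul_right Nat.card_pos (K.one_lt_card_iff_ne_bot.2 hK)
      have hord' : ∃ k : ℕ, orderOf (QuotientGroup.mk t : G ⧸ K) = 2 ^ k := by
        obtain ⟨k, hk⟩ := hord
        obtain ⟨j, -, hj⟩ := (Nat.dvd_prime_pow Nat.prime_two).1
          (hk ▸ orderOf_map_dvd (QuotientGroup.mk' K) t)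
        exact ⟨j, hj⟩
      exact ih (G ⧸ K) (by omega) _ (IsolatedP.isIsolated_mk hiso hord K) hord' g
    by_cases hO : Cfsg.pPrimeCore 2 G = ⊥
    swap
    · intro g
      have h := hquot (Cfsg.pPrimeCore 2 G) hO g
      rw [PLocal.pPrimeCore_quotient_pPrimeCore_eq_bot, mem_bot, QuotientGroup.eq_one_iff] at h
      exact h
    by_cases ht1 : t = 1
    · intro g
      simp [ht1]
    obtain ⟨k, hk⟩ := hord
    obtain ⟨j, rfl⟩ : ∃ j, k = j + 1 := ⟨k - 1, by
      rcases k with _ | k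
      · exact absurd (orderOf_eq_one_iff.1 (by simpa using hk)) ht1
      · rfl⟩
    set u := t ^ 2 ^ j with hu0
    have hu : orderOf u = 2 := by
      rw [orderOf_pow_of_dvd (by positivity) (hk ▸ pow_dvd_pow 2 (Nat.le_succ j)), hk, pow_succ,
        Nat.mul_div_cancel_left _ (by positivity)]
    obtain ⟨S, hS⟩ := (IsolatedP.isPGroup_zpowers (p := 2) ⟨_, hk⟩).exists_le_sylow
    have htS : t ∈ (S : Subgroup G) := hS (mem_zpowers t)
    have huiso : ∀ g : G, g * u * g⁻¹ ∈ S → g * u * g⁻¹ = u := by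
      intro g hg
      -- `t` and its conjugate centralise `g u g⁻¹`
      set C := centralizer ({g * u * g⁻¹} : Set G)
      have htC : t ∈ C := mem_centralizer_singleton_iff.2
        (IsolatedP.commute_of_mem hiso S.2 htS _ hg).symm
      have hgtC : g * t * g⁻¹ ∈ C := mem_centralizer_singleton_iff.2 <| by
        have hc : t * u = u * t := (Commute.self_pow t (2 ^ j)).eq
        calc g * t * g⁻¹ * (g * u * g⁻¹) = g * (t * u) * g⁻¹ := by group
          _ = g * (u * t) * g⁻¹ := by rw [hc]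
          _ = _ := by group
      have h1 : IsPGroup 2 (zpowers (⟨t, htC⟩ : C)) :=
        IsolatedP.isPGroup_zpowers ⟨j + 1, by rwa [Subgroup.orderOf_mk]⟩
      have h2 : IsPGroup 2 (zpowers (⟨g * t * g⁻¹, hgtC⟩ : C)) :=
        IsolatedP.isPGroup_zpowers ⟨j + 1, by
          rwa [Subgroup.orderOf_mk, ← MulAut.conj_apply, MulEquiv.orderOf_eq]⟩
      obtain ⟨R, hR⟩ := h1.exists_le_sylow
      obtain ⟨R', hR'⟩ := h2.exists_le_sylow
      obtain ⟨c, hc⟩ := MulAction.exists_smul_eq C R' R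
      have hmem : c * ⟨g * t * g⁻¹, hgtC⟩ * c⁻¹ ∈ (R : Subgroup C) := by
        rw [← hc, Sylow.coe_subgroup_smul]
        exact Subgroup.mem_map.2 ⟨_, hR' (mem_zpowers _), rfl⟩
      have heq : ((c : G) * g) * t * ((c : G) * g)⁻¹ = t := by
        refine IsolatedP.conj_eq_of_mem hiso (R.2.map C.subtype)
          ⟨⟨t, htC⟩, hR (mem_zpowers _), rfl⟩ _ ⟨_, hmem, ?_⟩
        simp [mul_assoc]
      have hequ : ((c : G) * g) * u * ((c : G) * g)⁻¹ = u := by
        rw [hu0, ← conj_pow, heq]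
      have hcc : (c : G) * (g * u * g⁻¹) * (c : G)⁻¹ = g * u * g⁻¹ :=
        mul_inv_eq_iff_eq_mul.2 (mem_centralizer_singleton_iff.1 c.2)
      calc g * u * g⁻¹ = (c : G) * (g * u * g⁻¹) * (c : G)⁻¹ := hcc.symm
        _ = ((c : G) * g) * u * ((c : G) * g)⁻¹ := by group
        _ = u := hequ
    have huS : u ∈ S := pow_mem htS _
    obtain ⟨N, hN, hNodd, hNu⟩ := ZStar.exists_oddNormal_of_sylow S hu huS huiso
    have hNbot : N = ⊥ := le_bot_iff.1 (hO ▸ PLocal.le_pPrimeCore (Nat.coprime_two_right.2 hNodd))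
    have hucent : ∀ g : G, Commute u g := fun g => by
      have h1 := hNu g
      rw [hNbot, mem_bot, mul_inv_eq_one, mul_inv_eq_iff_eq_mul] at h1
      exact h1
    set Z := zpowers u
    haveI : Z.Normal := ⟨fun z hz g => by
      obtain ⟨i, rfl⟩ := mem_zpowers_iff.1 hz
      rw [((hucent g).zpow_left i).symm.eq, mul_inv_cancel_right]
      exact zpow_mem (mem_zpowers u) i⟩
    have hZc : Nat.card Z = 2 := by rw [Nat.card_zpowers, hu]
    -- the preimage of the odd core of `G ⧸ Z`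
    set K := (Cfsg.pPrimeCore 2 (G ⧸ Z)).comap (QuotientGroup.mk' Z) with hK
    have hZK : Z ≤ K := by
      conv_lhs => rw [← QuotientGroup.ker_mk' Z]
      exact ker_le_comap _ _
    haveI : K.Normal := by rw [hK]; exact Subgroup.normal_comap _
    have hidx : (Z.subgroupOf K).index = Nat.card ↥(Cfsg.pPrimeCore 2 (G ⧸ Z)) := by
      have h1 : (Z.subgroupOf K).index = Z.relIndex K := rfl
      rw [h1, hK]
      refine Eq.trans (congrArg (fun X : Subgroup G => X.relIndex
        ((Cfsg.pPrimeCore 2 (G ⧸ Z)).comap (QuotientGroup.mk' Z)))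
        (show Z = (⊥ : Subgroup (G ⧸ Z)).comap (QuotientGroup.mk' Z) by
          rw [MonoidHom.comap_bot, QuotientGroup.ker_mk'])) ?_
      rw [relIndex_comap, map_comap_eq_self_of_surjective (QuotientGroup.mk'_surjective Z),
        relIndex_bot_left]
    obtain ⟨W, hW⟩ := exists_right_complement'_of_coprime (N := Z.subgroupOf K) (by
      rw [hidx, Nat.card_congr (subgroupOfEquivOfLe hZK).toEquiv, hZc]
      exact (PLocal.coprime_card_pPrimeCore 2 (G ⧸ Z)).symm)
    have hWodd : (Nat.card W).Coprime 2 := by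
      rw [← hW.symm.index_eq_card, hidx]
      exact PLocal.coprime_card_pPrimeCore 2 _
    have hsq : ∀ x : K, x ^ 2 ∈ W := by
      intro x
      obtain ⟨⟨z, w⟩, hzw⟩ := hW.2 x
      have hz2 : (z : K) ^ 2 = 1 := Subtype.ext (by
        have h1 := orderOf_dvd_natCard Z (mem_subgroupOf.1 z.2)
        rw [hZc] at h1
        exact orderOf_dvd_iff_pow_eq_one.1 h1)
      have hcomm : Commute (z : K) (w : K) := Subtype.ext (by
        obtain ⟨i, hi⟩ := mem_zpowers_iff.1 (mem_subgroupOf.1 z.2)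
        change ((z : K) : G) * ((w : K) : G) = ((w : K) : G) * ((z : K) : G)
        rw [← hi]
        exact ((hucent _).zpow_left i).eq)
      rw [← hzw]
      change ((z : K) * (w : K)) ^ 2 ∈ W
      rw [hcomm.mul_pow, hz2, one_mul]
      exact pow_mem w.2 2
    have hmem : ∀ x : K, Odd (orderOf x) → x ∈ W := by
      intro x hx
      obtain ⟨i, hi⟩ := hx
      rw [show x = (x ^ 2) ^ (i + 1) by
        rw [← pow_mul, show 2 * (i + 1) = orderOf x + 1 by omega, pow_succ, pow_orderOf_eq_one,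
          one_mul]]
      exact pow_mem (hsq x) _
    have hWn : (W.map K.subtype).Normal := ⟨by
      rintro _ ⟨w, hw, rfl⟩ g
      refine ⟨⟨g * w * g⁻¹, (inferInstance : K.Normal).conj_mem _ w.2 g⟩, hmem _ ?_, rfl⟩
      rw [← Subgroup.orderOf_coe]
      show Odd (orderOf (MulAut.conj g (w : G)))
      rw [MulEquiv.orderOf_eq, Subgroup.orderOf_coe]
      exact (Nat.coprime_two_right.1 hWodd).of_dvd_nat (Subgroup.orderOf_dvd_natCard W hw)⟩
    have hWbot : W.map K.subtype = ⊥ := le_bot_iff.1 (hO ▸ PLocal.le_pPrimeCore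
      (by rw [card_map_of_injective K.subtype_injective]; exact hWodd))
    intro g
    have hgK : g * t * g⁻¹ * t⁻¹ ∈ K :=
      hquot Z (fun e => by rw [e, Subgroup.card_bot] at hZc; omega) g
    obtain ⟨⟨z, w⟩, hzw⟩ := hW.2 ⟨_, hgK⟩
    have hw1 : ((w : K) : G) = 1 := mem_bot.1 (hWbot ▸ mem_map_of_mem K.subtype w.2)
    have hz : g * t * g⁻¹ * t⁻¹ ∈ Z := by
      have h1 := congrArg Subtype.val hzw
      simp only [Subgroup.coe_mul, hw1, mul_one] at h1
      rw [← h1]
      exact mem_subgroupOf.1 z.2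
    have hcg : Commute t (g * t * g⁻¹) := by
      obtain ⟨i, hi⟩ := mem_zpowers_iff.1 hz
      rw [show g * t * g⁻¹ = u ^ i * t by rw [hi]; group]
      exact ((hucent t).zpow_left i).symm.mul_right (Commute.refl t)
    rw [hiso g hcg, mul_inv_cancel]
    exact one_mem _

/-- S2962. -/
theorem commutator_solvable_odd (hodd : OddSolvable.{u}) {G : Type u} [Group G] [Finite G]
    (N Q : Subgroup G) [N.Normal] (hG : Q ⊔ N = ⊤) (hQ : IsPGroup 2 ↥Q) (hdisj : Q ⊓ N = ⊥)
    (t : G) (htZ : t ∈ Q ⊓ centralizer (Q : Set G)) (htQ : t ∈ ⁅Q, Q⁆)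
    (hC : N ⊓ centralizer (Q : Set G) = N ⊓ centralizer ({t} : Set G)) :
    Group.IsSolvable ↥⁅N, Q⁆ ∧ Odd (Nat.card ↥⁅N, Q⁆) := by
  haveI : Fact (Nat.Prime 2) := ⟨Nat.prime_two⟩
  have hord : ∃ k : ℕ, orderOf t = 2 ^ k := by
    obtain ⟨k, hk⟩ := IsPGroup.iff_orderOf.1 hQ ⟨t, htZ.1⟩
    exact ⟨k, by rwa [Subgroup.orderOf_mk] at hk⟩
  have hfix : ∀ x ∈ N, Commute x t → ∀ q ∈ Q, Commute q x := fun x hx hc q hq =>
    mem_centralizer_iff.1
      ((hC.ge ⟨hx, mem_centralizer_singleton_iff.2 hc⟩).2) q hq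
  have hiso : Cfsg.IsIsolated t := by
    intro g hg
    obtain ⟨n, hn, q₀, hq₀, rfl⟩ :=
      mem_sup_of_normal_left.1 (show g ∈ N ⊔ Q by rw [sup_comm, hG]; exact mem_top g)
    have hq₀t : q₀ * t * q₀⁻¹ = t :=
      mul_inv_eq_iff_eq_mul.2 (mem_centralizer_iff.1 htZ.2 q₀ hq₀)
    have e0 : n * q₀ * t * (n * q₀)⁻¹ = n * t * n⁻¹ := by
      calc _ = n * (q₀ * t * q₀⁻¹) * n⁻¹ := by group
        _ = _ := by rw [hq₀t]
    rw [e0] at hg ⊢
    -- `y` commutes with `t`, so `Q` centralizes the conjugate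
    have hyN : n * t * n⁻¹ * t⁻¹ ∈ N := by
      rw [show n * t * n⁻¹ * t⁻¹ = n * (t * n⁻¹ * t⁻¹) by group]
      exact N.mul_mem hn (Normal.conj_mem inferInstance _ (N.inv_mem hn) t)
    have hyt : Commute (n * t * n⁻¹ * t⁻¹) t := hg.symm.mul_left (Commute.refl t).inv_left
    have hQc : ∀ q ∈ Q, Commute q (n * t * n⁻¹) := fun q hq => by
      have h1 : Commute q t := mem_centralizer_iff.1 htZ.2 q hq
      have h2 := (hfix _ hyN hyt q hq).mul_right h1
      rwa [inv_mul_cancel_right] at h2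
    set c : G → G := fun q => q⁻¹ * (n⁻¹ * q * n) with hc
    have hcN : ∀ q, c q ∈ N := fun q => by
      simp only [c]
      rw [show q⁻¹ * (n⁻¹ * q * n) = (q⁻¹ * n⁻¹ * q⁻¹⁻¹) * n by group]
      exact N.mul_mem (Normal.conj_mem inferInstance _ (N.inv_mem hn) _) hn
    have hct : ∀ q ∈ Q, Commute (c q) t := fun q hq => by
      have h1 : Commute q t := mem_centralizer_iff.1 htZ.2 q hq
      have h2 : Commute (n⁻¹ * q * n) t := by
        have h3 := (hQc q hq).eq
        change n⁻¹ * q * n * t = t * (n⁻¹ * q * n)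
        calc n⁻¹ * q * n * t = n⁻¹ * (q * (n * t * n⁻¹)) * n := by group
          _ = n⁻¹ * (n * t * n⁻¹ * q) * n := by rw [h3]
          _ = _ := by group
      exact h1.inv_left.mul_left h2
    have hcQ : ∀ q ∈ Q, ∀ r ∈ Q, Commute r (c q) := fun q hq => hfix _ (hcN q) (hct q hq)
    have hmul : ∀ q ∈ Q, ∀ r ∈ Q, c (q * r) = c q * c r := fun q hq r hr => by
      have h1 : Commute (c q) r⁻¹ := (hcQ q hq r⁻¹ (Q.inv_mem hr)).symm
      calc c (q * r) = r⁻¹ * c q * (n⁻¹ * r * n) := by simp only [c]; group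
        _ = c q * r⁻¹ * (n⁻¹ * r * n) := by rw [h1.eq]
        _ = c q * c r := by simp only [c]; group
    -- the image is abelian
    have hab : ∀ q ∈ Q, ∀ r ∈ Q, Commute (c q) (c r) := by
      have hz : ∀ q ∈ Q, Commute (c q) (c t) := fun q hq => by
        have h1 : c (q * t) = c (t * q) := by rw [mem_centralizer_iff.1 htZ.2 q hq]
        rwa [hmul q hq t htZ.1, hmul t htZ.1 q hq] at h1
      intro q hq r hr
      -- `c q` commutes with `n⁻¹ t n`, so `n (c q) n⁻¹` is centralized by `Q`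
      have h2 : Commute (n * c q * n⁻¹) t := by
        have h3 : Commute (c q) (n⁻¹ * t * n) := by
          rw [show n⁻¹ * t * n = t * c t by simp only [c]; group]
          exact (hct q hq).mul_right (hz q hq)
        change n * c q * n⁻¹ * t = t * (n * c q * n⁻¹)
        calc n * c q * n⁻¹ * t = n * (c q * (n⁻¹ * t * n)) * n⁻¹ := by group
          _ = n * (n⁻¹ * t * n * c q) * n⁻¹ := by rw [h3.eq]
          _ = _ := by group
      have h4 := hfix _ (Normal.conj_mem inferInstance _ (hcN q) n) h2 r hr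
      have h5 : Commute (n⁻¹ * r * n) (c q) := by
        change n⁻¹ * r * n * c q = c q * (n⁻¹ * r * n)
        calc n⁻¹ * r * n * c q = n⁻¹ * (r * (n * c q * n⁻¹)) * n := by group
          _ = n⁻¹ * (n * c q * n⁻¹ * r) * n := by rw [h4.eq]
          _ = _ := by group
      exact ((hcQ q hq r hr).inv_left.mul_left h5).symm
    have hone : c 1 = 1 := by simp [c]
    let C : Q →* G := MonoidHom.mk' (fun q => c q) fun q r => hmul q q.2 r r.2
    have hker : ⁅Q, Q⁆ ≤ C.ker.map Q.subtype := by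
      refine Subgroup.commutator_le.2 fun q hq r hr => ⟨⁅(⟨q, hq⟩ : Q), ⟨r, hr⟩⁆, ?_, rfl⟩
      rw [SetLike.mem_coe, MonoidHom.mem_ker, map_commutatorElement,
        commutatorElement_eq_one_iff_mul_comm]
      exact (hab q hq r hr).eq
    obtain ⟨⟨t', ht'Q⟩, ht', rfl⟩ := hker htQ
    have hcv : t'⁻¹ * (n⁻¹ * t' * n) = 1 := MonoidHom.mem_ker.1 ht'
    rw [inv_mul_eq_one] at hcv
    change n * t' * n⁻¹ = t'
    calc n * t' * n⁻¹ = n * (n⁻¹ * t' * n) * n⁻¹ := by rw [← hcv]
      _ = t' := by group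
  have hz := isolated_two_central (Nat.card G) G le_rfl t hiso hord
  set O := Cfsg.pPrimeCore 2 G with hO
  haveI : O.Normal := by rw [hO]; infer_instance
  have hOodd : (Nat.card O).Coprime 2 := PLocal.coprime_card_pPrimeCore 2 G
  -- `N = C_N(Q) O`
  have hcent : ∀ a ∈ zpowers t, ∀ g : G, (a : G ⧸ O) * (g : G ⧸ O) = (g : G ⧸ O) * a := by
    intro a ha g
    obtain ⟨i, rfl⟩ := mem_zpowers_iff.1 ha
    have h1 : Commute (t : G ⧸ O) (g : G ⧸ O) := by
      have h2 := (QuotientGroup.eq_one_iff (g * t * g⁻¹ * t⁻¹)).2 (hz g)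
      simp only [QuotientGroup.mk_mul, QuotientGroup.mk_inv] at h2
      exact (mul_inv_eq_iff_eq_mul.1 (mul_inv_eq_one.1 h2)).symm
    rw [QuotientGroup.mk_zpow]
    exact (h1.zpow_left i).eq
  have hcop : (Nat.card (zpowers t)).Coprime (Nat.card O) := by
    obtain ⟨k, hk⟩ := hord
    rw [Nat.card_zpowers, hk]
    exact Nat.Coprime.pow_left k hOodd.symm
  have hON : O ≤ N := fun o ho => by
    rw [← QuotientGroup.eq_one_iff, ← orderOf_eq_one_iff]
    refine Nat.eq_one_of_dvd_coprimes hOodd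
      ((orderOf_map_dvd (QuotientGroup.mk' N) o).trans (Subgroup.orderOf_dvd_natCard O ho)) ?_
    obtain ⟨m, hm, q, hq, rfl⟩ :=
      mem_sup_of_normal_left.1 (show o ∈ N ⊔ Q by rw [sup_comm, hG]; exact mem_top o)
    obtain ⟨k, hk⟩ := IsPGroup.iff_orderOf.1 hQ ⟨q, hq⟩
    rw [Subgroup.orderOf_mk] at hk
    have h1 : orderOf (QuotientGroup.mk' N (m * q)) ∣ 2 ^ k := by
      rw [map_mul, show QuotientGroup.mk' N m = 1 from (QuotientGroup.eq_one_iff m).2 hm, one_mul]
      exact hk ▸ orderOf_map_dvd (QuotientGroup.mk' N) q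
    show orderOf (QuotientGroup.mk' N (m * q)) ∣ 2
    rw [Nat.eq_one_of_dvd_coprimes (hOodd.pow_right k)
      ((orderOf_map_dvd (QuotientGroup.mk' N) (m * q)).trans
        (Subgroup.orderOf_dvd_natCard O ho)) h1]
    exact one_dvd 2
  have hle : ⁅N, Q⁆ ≤ O := by
    refine Subgroup.commutator_le.2 fun x hx q hq => ?_
    have hsol : Group.IsSolvable (zpowers t) :=
      Group.isSolvable_of_comm fun a b => mul_comm' a b
    obtain ⟨y, hy, hyO⟩ := Coprime.exists_fixed_mem_coset (A := zpowers t)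
      (by rw [normalizer_eq_top O]; exact le_top) hcop (Or.inl hsol) (k := x) fun a ha => by
        rw [← QuotientGroup.eq_one_iff]
        simp only [QuotientGroup.mk_mul, QuotientGroup.mk_inv]
        rw [hcent a ha x, mul_inv_cancel_right, inv_mul_cancel]
    have hyN : y ∈ N := by
      have := N.mul_mem hx (hON hyO)
      rwa [mul_inv_cancel_left] at this
    have hyt : Commute y t := (mem_centralizer_iff.1 hy t (mem_zpowers t)).symm
    have hqy : Commute q y := hfix y hyN hyt q hq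
    rw [← QuotientGroup.eq_one_iff, commutatorElement_def]
    have e : (x : G ⧸ O) = y := QuotientGroup.eq.2 hyO
    simp only [QuotientGroup.mk_mul, QuotientGroup.mk_inv, e]
    rw [← QuotientGroup.mk_mul, ← hqy.eq, QuotientGroup.mk_mul, mul_inv_cancel_right, mul_inv_cancel]
  have h2 : Odd (Nat.card ↥⁅N, Q⁆) :=
    (Nat.coprime_two_right.1 hOodd).of_dvd_nat (card_dvd_of_le hle)
  exact ⟨hodd _ h2, h2⟩

end CfsgLib.FT
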