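import Cfsg.Agent.FT.Basic
import Cfsg.Agent.Solvable.Hall

/-!
# Hall theorems for π-separable groups, Chunikhin's theorem (S1908, S4310)
-/

set_option autoImplicit false
set_option linter.style.haveILetI false

namespace CfsgLib.FT

open Cfsg Subgroup CfsgLib.Solvable
open scoped Pointwise

universe u

variable {G : Type u} [Group G] [Finite G] {G' : Type u} [Group G'] [Finite G'] {π : Set ℕ}

/-- Every π-subgroup lies in a conjugate of every Hall π-subgroup. -/
def HallDom (π : Set ℕ) (G : Type*) [Group G] : Prop :=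
  ∀ H U : Subgroup G, Cfsg.IsPiHall π H → Cfsg.IsPiSubgroup π U →
    ∃ g : G, MulAut.conj g • U ≤ H

/-- The kernel is a π-group or a π'-group. -/
def PiKer (π : Set ℕ) (f : G →* G') : Prop :=
  Cfsg.IsPiSubgroup π f.ker ∨ ∀ q : ℕ, q.Prime → q ∈ π → ¬ q ∣ Nat.card f.ker

theorem card_eq_mul_card_ker {f : G →* G'} (hf : Function.Surjective f) :
    Nat.card G = Nat.card G' * Nat.card f.ker := by
  rw [f.ker.card_eq_card_quotient_mul_card_subgroup,
    Nat.card_congr (QuotientGroup.quotientKerEquivOfSurjective f hf).toEquiv]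

theorem card_comap_of_surjective {f : G →* G'} (hf : Function.Surjective f) (H : Subgroup G') :
    Nat.card (H.comap f) = Nat.card H * Nat.card f.ker := by
  have h1 := (H.comap f).card_mul_index
  have h2 := card_eq_mul_card_ker hf
  rw [index_comap_of_surjective _ hf, h2, ← H.card_mul_index, mul_right_comm] at h1
  exact Nat.eq_of_mul_eq_mul_right (Nat.pos_of_ne_zero index_ne_zero_of_finite) h1

/-- Existence of Hall subgroups lifts along a map with π- or π'-kernel. -/
theorem exists_hall_of_surjective {f : G →* G'} (hf : Function.Surjective f) (hk : PiKer π f)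
    (h : ∃ H : Subgroup G', Cfsg.IsPiHall π H) : ∃ H : Subgroup G, Cfsg.IsPiHall π H := by
  obtain ⟨Hb, hHb⟩ := h
  set L := Hb.comap f
  have hLidx : L.index = Hb.index := index_comap_of_surjective _ hf
  have hLcard : Nat.card L = Nat.card Hb * Nat.card f.ker := card_comap_of_surjective hf Hb
  rcases hk with hk | hk
  · refine ⟨L, ?_, hLidx ▸ hHb.2⟩
    rw [hLcard]
    exact piNat_mul hHb.1 hk
  have hML : f.ker ≤ L := ker_le_comap f _
  have hcM : Nat.card (f.ker.subgroupOf L) = Nat.card f.ker :=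
    Nat.card_congr (subgroupOfEquivOfLe hML).toEquiv
  have hidx : (f.ker.subgroupOf L).index = Nat.card Hb := by
    have h1 := (f.ker.subgroupOf L).index_mul_card
    rw [hcM, hLcard] at h1
    exact Nat.eq_of_mul_eq_mul_right Nat.card_pos h1
  obtain ⟨K, hK⟩ := exists_right_complement'_of_coprime (N := f.ker.subgroupOf L)
    (by rw [hcM, hidx]; exact (coprime_of_piNat hHb.1 hk).symm)
  have hcK : Nat.card (K.map L.subtype) = Nat.card Hb := by
    rw [card_map_of_injective L.subtype_injective, card_eq_index_of_isComplement' hK, hidx]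
  refine ⟨K.map L.subtype, hcK ▸ hHb.1, fun q hq hqπ hqd => ?_⟩
  rw [index_map_subtype, hLidx, hK.index_eq_card, hcM] at hqd
  rcases hq.dvd_mul.mp hqd with h | h
  · exact hk q hq hqπ h
  · exact hHb.2 q hq hqπ h

/-- Dominance of Hall subgroups lifts along a map with π- or π'-kernel. -/
theorem hallDom_of_surjective (hodd : OddSolvable.{u}) {f : G →* G'} (hf : Function.Surjective f)
    (hk : PiKer π f) (hD : HallDom π G') : HallDom π G := by
  intro H U hH hU
  obtain ⟨g', hg'⟩ := hD (H.map f) (U.map f) (isPiHall_map hf hH)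
    (piNat_of_dvd hU (U.card_map_dvd f))
  obtain ⟨g, rfl⟩ := hf g'
  rw [← map_conj_smul] at hg'
  have hle : MulAut.conj g • U ≤ H ⊔ f.ker := by
    have h1 := (le_comap_map f _).trans (comap_mono hg')
    rwa [comap_map_eq] at h1
  rcases hk with hk | hk
  · exact ⟨g, hle.trans (sup_le le_rfl (le_isPiHall_of_normal hH hk))⟩
  set K : Subgroup G := H ⊔ f.ker
  have hcH : (Nat.card H).Coprime (Nat.card f.ker) := coprime_of_piNat hH.1 hk
  have hcMK : Nat.card (f.ker.subgroupOf K) = Nat.card f.ker :=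
    Nat.card_congr (subgroupOfEquivOfLe (le_sup_right : f.ker ≤ K)).toEquiv
  have hcHK : Nat.card (H.subgroupOf K) = Nat.card H :=
    Nat.card_congr (subgroupOfEquivOfLe (le_sup_left : H ≤ K)).toEquiv
  have hcomp : IsComplement' (f.ker.subgroupOf K) (H.subgroupOf K) := by
    apply isComplement'_of_coprime
    · rw [hcMK, hcHK, card_sup_of_disjoint f.ker H (disjoint_of_coprime hcH.symm), mul_comm]
    · rw [hcMK, hcHK]; exact hcH.symm
  obtain ⟨k, -, hk'⟩ := exists_conj_le_of_coprime hodd (U := (MulAut.conj g • U).subgroupOf K)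
    hcomp (by rw [hcMK, hcHK]; exact hcH) (by
      rw [hcMK, Nat.card_congr (subgroupOfEquivOfLe hle).toEquiv, card_conj_smul]
      exact coprime_of_piNat hU hk)
  refine ⟨(k : G) * g, ?_⟩
  have h3 := map_mono (f := K.subtype) hk'
  rw [map_subtype_conj_smul, map_subgroupOf_eq_of_le hle,
    map_subgroupOf_eq_of_le (le_sup_left : H ≤ K)] at h3
  rwa [map_mul, mul_smul]

theorem exists_hall_of_subsingleton [Subsingleton G] : ∃ H : Subgroup G, Cfsg.IsPiHall π H := by
  refine ⟨⊤, fun p hp h => ?_, fun p hp _ h => ?_⟩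
  · rw [Nat.card_unique] at h
    exact absurd (Nat.dvd_one.1 h) hp.ne_one
  · rw [index_top] at h
    exact hp.ne_one (Nat.dvd_one.1 h)

theorem hallDom_of_subsingleton [Subsingleton G] : HallDom π G :=
  fun H _ _ _ => ⟨1, fun x _ => Subsingleton.elim (1 : G) x ▸ one_mem H⟩

/-- Hall theorems in π-separable groups. -/
theorem hall_of_separable (hodd : OddSolvable.{u}) {n : ℕ} (H : Fin (n + 1) → Subgroup G)
    (h0 : H 0 = ⊥) (hl : H (Fin.last n) = ⊤) (hmono : Monotone H) (hnorm : ∀ i, (H i).Normal)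
    (hfac : ∀ i : Fin n,
      (∀ q : ℕ, q.Prime → q ∣ (H i.castSucc).relIndex (H i.succ) → q ∈ π) ∨
      (∀ q : ℕ, q.Prime → q ∣ (H i.castSucc).relIndex (H i.succ) → q ∉ π)) :
    (∃ K : Subgroup G, Cfsg.IsPiHall π K) ∧ HallDom π G := by
  have key : ∀ i : Fin (n + 1),
      (∃ K : Subgroup (G ⧸ H i), Cfsg.IsPiHall π K) ∧ @HallDom π (G ⧸ H i) _ := by
    intro i
    induction i using Fin.reverseInduction with
    | last =>
      haveI : Subsingleton (G ⧸ H (Fin.last n)) := by
        rw [hl]; exact QuotientGroup.subsingleton_quotient_top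
      exact ⟨exists_hall_of_subsingleton, hallDom_of_subsingleton⟩
    | cast i ih =>
      haveI := hnorm i.castSucc
      haveI := hnorm i.succ
      have hle : H i.castSucc ≤ H i.succ := hmono (Fin.castSucc_lt_succ (i := i)).le
      set f : G ⧸ H i.castSucc →* G ⧸ H i.succ :=
        QuotientGroup.map _ _ (MonoidHom.id G) (by simpa using hle)
      have hf : Function.Surjective f := by
        intro x
        obtain ⟨g, rfl⟩ := QuotientGroup.mk_surjective x
        exact ⟨g, rfl⟩
      have hker : Nat.card f.ker = (H i.castSucc).relIndex (H i.succ) := by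
        refine Nat.eq_of_mul_eq_mul_left (Nat.pos_of_ne_zero (index_ne_zero_of_finite
          (H := H i.succ))) ?_
        rw [mul_comm _ ((H i.castSucc).relIndex _), relIndex_mul_index hle, index_eq_card,
          index_eq_card, mul_comm, card_eq_mul_card_ker hf, mul_comm]
      have hk : PiKer π f := (hfac i).imp (fun h q hq hd => h q hq (hker ▸ hd))
        (fun h q hq hqπ hd => h q hq (hker ▸ hd) hqπ)
      exact ⟨exists_hall_of_surjective hf hk ih.1, hallDom_of_surjective hodd hf hk ih.2⟩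
  haveI := hnorm 0
  obtain ⟨h1, h2⟩ := key 0
  have hf : Function.Surjective (QuotientGroup.mk' (H 0)) := QuotientGroup.mk'_surjective _
  have hk : PiKer π (QuotientGroup.mk' (H 0)) := Or.inl fun q hq hd => by
    rw [QuotientGroup.ker_mk', h0, card_bot] at hd
    exact absurd (Nat.dvd_one.1 hd) hq.ne_one
  exact ⟨exists_hall_of_surjective hf hk h1, hallDom_of_surjective hodd hf hk h2⟩

/-- S1908. -/
theorem hall_piSeparable (hodd : OddSolvable.{u}) (π : Set ℕ)
    (hsep : ∃ (n : ℕ) (H : Fin (n + 1) → Subgroup G), H 0 = ⊥ ∧ H (Fin.last n) = ⊤ ∧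
      Monotone H ∧ (∀ i, (H i).Normal) ∧
      ∀ i : Fin n, (∀ q : ℕ, q.Prime → q ∣ (H i.castSucc).relIndex (H i.succ) → q ∈ π) ∨
        (∀ q : ℕ, q.Prime → q ∣ (H i.castSucc).relIndex (H i.succ) → q ∉ π)) :
    (∃ K : Subgroup G, Cfsg.IsPiHall π K) ∧
      (∀ K L : Subgroup G, Cfsg.IsPiHall π K → Cfsg.IsPiHall π L →
        ∃ g : G, L = K.map (MulAut.conj g).toMonoidHom) ∧
      ∀ U : Subgroup G, (∀ q : ℕ, q.Prime → q ∣ Nat.card U → q ∈ π) →
        ∃ K : Subgroup G, Cfsg.IsPiHall π K ∧ U ≤ K := by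
  obtain ⟨n, H, h0, hl, hmono, hnorm, hfac⟩ := hsep
  obtain ⟨⟨K, hK⟩, hD⟩ := hall_of_separable hodd H h0 hl hmono hnorm hfac
  refine ⟨⟨K, hK⟩, fun K L hK hL => ?_, fun U hU => ?_⟩
  · obtain ⟨g, hg⟩ := hD L K hL hK.1
    exact ⟨g, (eq_of_isPiHall_le (isPiHall_conj_smul hK g) hL.1 hg).symm⟩
  · obtain ⟨g, hg⟩ := hD K U hK hU
    refine ⟨MulAut.conj g⁻¹ • K, isPiHall_conj_smul hK _, ?_⟩
    rw [map_inv]
    exact subset_pointwise_smul_iff.mpr (by rwa [inv_inv])

/-- S4310 (Chunikhin): an extension of a `C_π`-group by a `C_π`-group is a `C_π`-group. -/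
theorem isCPiGroup_of_extension (hodd : OddSolvable.{u}) (π : Set ℕ) (A : Subgroup G) [A.Normal]
    (hA : Cfsg.IsCPiGroup π ↥A) (hQ : Cfsg.IsCPiGroup π (G ⧸ A)) : Cfsg.IsCPiGroup π G := by
  obtain ⟨HA, hHA⟩ := hA.1
  set R := HA.map A.subtype with hR
  have hRA : R ≤ A := map_subtype_le _
  have hRsub : R.subgroupOf A = HA := comap_map_eq_self_of_injective A.subtype_injective HA
  set N := normalizer (R : Set G)
  -- Frattini
  have hFr : ∀ g : G, ∃ a ∈ A, a * g ∈ N := by
    intro g
    have hgA : MulAut.conj g • R ≤ A := by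
      conv_rhs => rw [← Subgroup.Normal.conj_smul_eq_self g A]
      exact pointwise_smul_le_pointwise_smul_iff.mpr hRA
    have hcard : Nat.card ((MulAut.conj g • R).subgroupOf A) = Nat.card HA := by
      rw [Nat.card_congr (subgroupOfEquivOfLe hgA).toEquiv, card_conj_smul, hR,
        card_map_of_injective A.subtype_injective]
    have hg : Cfsg.IsPiHall π ((MulAut.conj g • R).subgroupOf A) := by
      refine ⟨hcard ▸ hHA.1, ?_⟩
      have h1 := ((MulAut.conj g • R).subgroupOf A).card_mul_index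
      rw [← HA.card_mul_index, hcard] at h1
      rw [Nat.eq_of_mul_eq_mul_left Nat.card_pos h1]
      exact hHA.2
    obtain ⟨a, ha⟩ := hA.2 _ _ hg hHA
    refine ⟨a, a.2, mem_normalizer_iff_conj_smul.2 ?_⟩
    have h2 := congrArg (Subgroup.map A.subtype) (show HA = MulAut.conj a • _ from ha)
    rw [map_subtype_conj_smul, map_subgroupOf_eq_of_le hgA, ← mul_smul, ← map_mul, ← hR] at h2
    exact h2.symm
  -- the maps `N → N / R → G / A`
  haveI : (R.subgroupOf N).Normal := inferInstance
  set φ : N →* G ⧸ A := (QuotientGroup.mk' A).comp N.subtype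
  have hφ : Function.Surjective φ := by
    intro x
    obtain ⟨g, rfl⟩ := QuotientGroup.mk_surjective x
    obtain ⟨a, ha, hag⟩ := hFr g
    refine ⟨⟨a * g, hag⟩, ?_⟩
    change (↑(a * g) : G ⧸ A) = ↑g
    rw [QuotientGroup.mk_mul, (QuotientGroup.eq_one_iff a).2 ha, one_mul]
  have hRN : R ≤ N := le_normalizer
  have hRφ : R.subgroupOf N ≤ φ.ker := fun x hx =>
    (QuotientGroup.eq_one_iff _).2 (hRA (mem_subgroupOf.1 hx))
  set f1 : N →* N ⧸ R.subgroupOf N := QuotientGroup.mk' _
  set f2 : N ⧸ R.subgroupOf N →* G ⧸ A := QuotientGroup.lift _ φ hRφ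
  have hk1 : PiKer π f1 := Or.inl fun q hq hd => by
    rw [QuotientGroup.ker_mk', Nat.card_congr (subgroupOfEquivOfLe hRN).toEquiv, hR,
      card_map_of_injective A.subtype_injective] at hd
    exact hHA.1 q hq hd
  have hf2 : Function.Surjective f2 := fun x =>
    let ⟨y, hy⟩ := hφ x
    ⟨f1 y, hy⟩
  have hidx : HA.index = Nat.card f2.ker * N.index := by
    have h1 := N.card_mul_index
    rw [card_eq_mul_card_ker (QuotientGroup.mk'_surjective (R.subgroupOf N)),
      card_eq_mul_card_ker hf2, QuotientGroup.ker_mk',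
      Nat.card_congr (subgroupOfEquivOfLe hRN).toEquiv,
      show Nat.card R = Nat.card HA from card_map_of_injective A.subtype_injective,
      ← A.index_mul_card, A.index_eq_card,
      ← HA.card_mul_index] at h1
    have h2 : Nat.card (G ⧸ A) * Nat.card HA * (Nat.card f2.ker * N.index) =
        Nat.card (G ⧸ A) * Nat.card HA * HA.index := by
      rw [mul_assoc _ (Nat.card HA) HA.index, ← h1]; ring
    exact (Nat.eq_of_mul_eq_mul_left (Nat.mul_pos Nat.card_pos Nat.card_pos) h2).symm
  have hk2' : ∀ q : ℕ, q.Prime → q ∈ π → ¬ q ∣ Nat.card f2.ker := fun q hq hqπ hd =>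
    hHA.2 q hq hqπ (hd.trans (hidx ▸ Dvd.intro _ rfl))
  refine ⟨?_, fun H K hH hK => ?_⟩
  · -- existence
    obtain ⟨Hn, hHn⟩ := exists_hall_of_surjective (QuotientGroup.mk'_surjective _) hk1
      (exists_hall_of_surjective hf2 (Or.inr hk2') hQ.1)
    refine ⟨Hn.map N.subtype, ?_, fun q hq hqπ hd => ?_⟩
    · rw [card_map_of_injective N.subtype_injective]
      exact hHn.1
    rw [index_map_subtype] at hd
    rcases hq.dvd_mul.1 hd with h | h
    · exact hHn.2 q hq hqπ h
    · exact hHA.2 q hq hqπ (h.trans (hidx ▸ Dvd.intro_left _ rfl))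
  -- conjugacy: every Hall subgroup is conjugate to one inside `N`
  have hmove : ∀ X : Subgroup G, Cfsg.IsPiHall π X → ∃ g : G, MulAut.conj g • X ≤ N := by
    intro X hX
    obtain ⟨a, ha⟩ := hA.2 _ _ (isPiHall_inf_normal (L := A) hX) hHA
    refine ⟨a, ?_⟩
    have h1 : R = MulAut.conj (a : G) • (X ⊓ A) := by
      have h2 := congrArg (Subgroup.map A.subtype) (show HA = MulAut.conj a • _ from ha)
      rwa [map_subtype_conj_smul, map_subgroupOf_eq_of_le inf_le_right, ← hR] at h2
    rw [smul_inf, Subgroup.Normal.conj_smul_eq_self (a : G) A] at h1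
    intro x hx
    rw [mem_normalizer_iff_conj_smul, h1, smul_inf, Subgroup.Normal.conj_smul_eq_self x A]
    exact congrArg (· ⊓ A) (mem_normalizer_iff_conj_smul.1 (le_normalizer hx))
  obtain ⟨g₁, hg₁⟩ := hmove H hH
  obtain ⟨g₂, hg₂⟩ := hmove K hK
  set H' := (MulAut.conj g₁ • H).subgroupOf N
  set K' := (MulAut.conj g₂ • K).subgroupOf N
  have hH' : Cfsg.IsPiHall π H' := isPiHall_subgroupOf (isPiHall_conj_smul hH g₁) hg₁
  have hK' : Cfsg.IsPiHall π K' := isPiHall_subgroupOf (isPiHall_conj_smul hK g₂) hg₂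
  obtain ⟨y', hy'⟩ := hQ.2 _ _ (isPiHall_map hφ hH') (isPiHall_map hφ hK')
  obtain ⟨y, rfl⟩ := hφ y'
  set H'' := MulAut.conj y • H'
  have hH'' : Cfsg.IsPiHall π H'' := isPiHall_conj_smul hH' y
  have hyK : H''.map φ = K'.map φ := (map_conj_smul φ y H').trans hy'.symm
  -- inside the preimage `M` of the common image
  set M := (K'.map φ).comap φ
  have hHM : H'' ≤ M := (le_comap_map φ H'').trans (comap_mono hyK.le)
  have hKM : K' ≤ M := le_comap_map φ K'
  obtain ⟨-, hDM⟩ := hall_of_separable (G := M) (π := π) hodd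
    ![⊥, (R.subgroupOf N).subgroupOf M, φ.ker.subgroupOf M, ⊤] rfl rfl
    (Fin.monotone_iff_le_succ.2 fun i => by
      fin_cases i
      · exact bot_le
      · exact comap_mono hRφ
      · exact le_top)
    (fun i => by
      fin_cases i
      · exact inferInstanceAs (⊥ : Subgroup M).Normal
      · exact inferInstanceAs ((R.subgroupOf N).subgroupOf M).Normal
      · exact inferInstanceAs (φ.ker.subgroupOf M).Normal
      · exact inferInstanceAs (⊤ : Subgroup M).Normal)
    (fun i => by
      fin_cases i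
      · refine Or.inl fun q hq hd => hHA.1 q hq ?_
        change q ∣ (⊥ : Subgroup M).relIndex ((R.subgroupOf N).subgroupOf M) at hd
        rw [relIndex_bot_left, Nat.card_congr (subgroupOfEquivOfLe
          (hRφ.trans (ker_le_comap φ _) : R.subgroupOf N ≤ M)).toEquiv,
          Nat.card_congr (subgroupOfEquivOfLe hRN).toEquiv, hR,
          card_map_of_injective A.subtype_injective] at hd
        exact hd
      · refine Or.inr fun q hq hd hqπ => hk2' q hq hqπ ?_
        change q ∣ ((R.subgroupOf N).subgroupOf M).relIndex (φ.ker.subgroupOf M) at hd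
        rw [← relIndex_map_map_of_injective _ _ M.subtype_injective, subgroupOf_map_subtype,
          subgroupOf_map_subtype, inf_eq_left.2 (hRφ.trans (ker_le_comap φ _) : R.subgroupOf N ≤ M),
          inf_eq_left.2 (ker_le_comap φ _ : φ.ker ≤ M)] at hd
        convert hd using 1
        refine Nat.eq_of_mul_eq_mul_left (Nat.pos_of_ne_zero (index_ne_zero_of_finite
          (H := φ.ker))) ?_
        rw [mul_comm _ ((R.subgroupOf N).relIndex _), relIndex_mul_index hRφ, index_ker φ,
          MonoidHom.range_eq_top.2 hφ, card_top, index_eq_card, card_eq_mul_card_ker hf2]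
      · refine Or.inl fun q hq hd => hH'.1 q hq ?_
        change q ∣ (φ.ker.subgroupOf M).relIndex ⊤ at hd
        rw [relIndex_top_right, ← MonoidHom.ker_domRestrict, index_ker,
          MonoidHom.domRestrict_range, map_comap_eq_self_of_surjective hφ] at hd
        rw [← card_conj_smul y H']
        rw [← hyK] at hd; exact hd.trans (card_map_dvd H'' φ))
  obtain ⟨m, hm⟩ := hDM (K'.subgroupOf M) (H''.subgroupOf M) (isPiHall_subgroupOf hK' hKM)
    (isPiHall_subgroupOf hH'' hHM).1
  have h3 := map_mono (f := M.subtype) hm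
  rw [map_subtype_conj_smul, map_subgroupOf_eq_of_le hHM, map_subgroupOf_eq_of_le hKM] at h3
  have h4 := map_mono (f := N.subtype)
    (eq_of_isPiHall_le (isPiHall_conj_smul hH'' m) hK'.1 h3).le
  rw [map_subtype_conj_smul, show H''.map N.subtype = MulAut.conj (y : G) • (MulAut.conj g₁ • H) by
      rw [map_subtype_conj_smul, map_subgroupOf_eq_of_le hg₁],
    map_subgroupOf_eq_of_le hg₂] at h4
  have h5 := eq_of_isPiHall_le (isPiHall_conj_smul (isPiHall_conj_smul (isPiHall_conj_smul hH g₁) y)
    (m : N)) (isPiHall_conj_smul hK g₂).1 h4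
  refine ⟨g₂⁻¹ * ((m : N) * y * g₁), ?_⟩
  change K = MulAut.conj (g₂⁻¹ * ((m : N) * y * g₁)) • H
  rw [map_mul, mul_smul, map_mul, mul_smul, map_mul, mul_smul, h5, map_inv, inv_smul_smul]

end CfsgLib.FT
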