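import Cfsg.Agent.FT.Basic
import Cfsg.Agent.BrauerSuzuki.Forms
import Cfsg.Agent.Small.SylowArgs

/-!
# A noncyclic simple group contains a four-group (S0204), from the odd order theorem
-/

set_option autoImplicit false

namespace CfsgLib.FT

open Subgroup

universe u

variable {G : Type u} [Group G] [Finite G]

/-- A noncyclic simple group is not commutative. -/
theorem not_isMulCommutative_of_not_isCyclic [IsSimpleGroup G] (hG : ¬ IsCyclic G) :
    ¬ IsMulCommutative G := fun h => hG <| by
  haveI := h
  letI : CommGroup G := { (inferInstance : Group G) with mul_comm := fun a b => h.is_comm.comm a b }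
  exact IsSimpleGroup.isCyclic (α := G)

/-- S0204. -/
theorem exists_kleinFour (hodd : OddSolvable.{u}) [IsSimpleGroup G] (hG : ¬ IsCyclic G) :
    ∃ E : Subgroup G, IsKleinFour E := by
  by_contra hno
  push Not at hno
  have hnc := not_isMulCommutative_of_not_isCyclic hG
  have heven : Even (Nat.card G) := by
    by_contra h
    have hs := hodd G (Nat.not_even_iff_odd.1 h)
    exact hnc ⟨⟨fun a b => IsSimpleGroup.comm_iff_isSolvable.2 hs a b⟩⟩
  haveI : Fact (Nat.Prime 2) := ⟨Nat.prime_two⟩
  obtain ⟨z, hz⟩ := exists_prime_orderOf_dvd_card' 2 heven.two_dvd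
  obtain ⟨N, hN, hNodd, hNz⟩ := BrauerSuzuki.exists_normal_odd
    (BrauerSuzuki.noFour_of_no_kleinFour hno) (u := z) (hz ▸ pow_orderOf_eq_one z)
    (fun h => by rw [h, orderOf_one] at hz; omega)
  rcases hN.eq_bot_or_eq_top with h | h
  · have hzc : z ∈ center G := mem_center_iff.2 fun g => by
      have h1 := mem_bot.1 (h ▸ hNz g)
      calc g * z = (z * g * z⁻¹ * g⁻¹) * (g * z) := by rw [h1, one_mul]
        _ = z * g := by group
    rw [Small.center_eq_bot_of_simple hnc, mem_bot] at hzc
    rw [hzc, orderOf_one] at hz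
    omega
  · rw [h, card_top] at hNodd
    exact Nat.not_even_iff_odd.2 hNodd heven

end CfsgLib.FT
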