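import Cfsg.Agent.FT.Basic
import Cfsg.Agent.Components.Layer

/-!
# The layer when cyclic 2-subgroups of equal order are conjugate (S3915), from the odd order theorem

If two cyclic `2`-subgroups of the same order are always conjugate then there is at most one
component: if `x₁, x₂` are noncentral 2-elements of two components then `x₁ x₂` lies in a third one,
which is impossible.
-/

set_option autoImplicit false

namespace CfsgLib.FT

open Subgroup CfsgLib.Components

universe u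

variable {G : Type u} [Group G] [Finite G]

/-- A quasisimple group has a noncentral `2`-element. -/
theorem exists_two_element_notMem_center (hodd : OddSolvable.{u}) {H : Type u} [Group H] [Finite H]
    (hH : Cfsg.IsQuasisimple H) :
    ∃ x : H, x ∉ center H ∧ ∃ k : ℕ, orderOf x = 2 ^ k := by
  haveI := hH.2
  have hnc : ¬ IsMulCommutative (H ⧸ center H) := by
    intro hcomm
    haveI := hH.1
    haveI := IsQuasisimple.nontrivial hH
    haveI : Group.IsPerfect (H ⧸ center H) :=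
      Group.IsPerfect.ofSurjective (f := QuotientGroup.mk' (center H))
        (QuotientGroup.mk'_surjective _)
    exact Group.IsPerfect.not_isMulCommutative (H ⧸ center H) hcomm
  have hev : Even (Nat.card (H ⧸ center H)) := by
    by_contra h
    exact hnc ⟨⟨fun a b => IsSimpleGroup.comm_iff_isSolvable.2
      (hodd _ (Nat.not_even_iff_odd.1 h)) a b⟩⟩
  haveI : Fact (Nat.Prime 2) := ⟨Nat.prime_two⟩
  obtain ⟨y, hy⟩ := exists_prime_orderOf_dvd_card' 2 hev.two_dvd
  obtain ⟨x, rfl⟩ := QuotientGroup.mk'_surjective (center H) y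
  obtain ⟨k, m, hm, hx⟩ := Nat.exists_eq_pow_mul_and_not_dvd (orderOf_pos x).ne' 2 (by norm_num)
  refine ⟨x ^ m, fun hc => ?_, k, ?_⟩
  · have h1 : (QuotientGroup.mk' (center H) x) ^ m = 1 := by
      rw [← map_pow, QuotientGroup.mk'_apply, QuotientGroup.eq_one_iff]
      exact hc
    exact hm (hy ▸ orderOf_dvd_of_pow_eq_one h1)
  · have hm0 : m ≠ 0 := by rintro rfl; exact hm (dvd_zero 2)
    rw [orderOf_pow_of_dvd hm0 (hx ▸ dvd_mul_left m (2 ^ k)), hx,
      Nat.mul_div_cancel _ (Nat.pos_of_ne_zero hm0)]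

/-- A component contains a `2`-element not centralizing it. -/
theorem exists_two_element_not_centralizing (hodd : OddSolvable.{u}) {L : Subgroup G}
    (hL : Cfsg.IsComponent L) :
    ∃ x ∈ L, x ∉ centralizer (L : Set G) ∧ ∃ k : ℕ, orderOf x = 2 ^ k := by
  obtain ⟨x, hx, k, hk⟩ := exists_two_element_notMem_center hodd hL.2
  refine ⟨x, x.2, fun hc => hx ?_, k, by rwa [Subgroup.orderOf_coe]⟩
  rw [mem_center_iff]
  exact fun l => Subtype.ext (mem_centralizer_iff.mp hc l l.2)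

theorem component_eq_of_conjugate_cyclic (hodd : OddSolvable.{u})
    (hP : ∀ A B : Subgroup G, IsCyclic ↥A → IsCyclic ↥B → IsPGroup 2 ↥A →
      Nat.card ↥A = Nat.card ↥B → ∃ g : G, B = A.map (MulAut.conj g).toMonoidHom)
    {L₁ L₂ : Subgroup G} (h₁ : Cfsg.IsComponent L₁) (h₂ : Cfsg.IsComponent L₂) : L₁ = L₂ := by
  by_contra hne
  obtain ⟨x₁, hx₁, hn₁, k₁, hk₁⟩ := exists_two_element_not_centralizing hodd h₁
  obtain ⟨x₂, hx₂, hn₂, k₂, hk₂⟩ := exists_two_element_not_centralizing hodd h₂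
  wlog hle : k₂ ≤ k₁ generalizing L₁ L₂ x₁ x₂ k₁ k₂
  · exact this h₂ h₁ (Ne.symm hne) x₂ hx₂ hn₂ k₂ hk₂ x₁ hx₁ hn₁ k₁ hk₁ (Nat.le_of_not_le hle)
  have hc12 : L₁ ≤ centralizer (L₂ : Set G) :=
    commutator_eq_bot_iff_le_centralizer.mp (IsComponent.commutator_eq_bot_of_ne h₁ h₂ hne)
  have hc21 : L₂ ≤ centralizer (L₁ : Set G) :=
    commutator_eq_bot_iff_le_centralizer.mp (IsComponent.commutator_eq_bot_of_ne h₂ h₁ (Ne.symm hne))
  have hcomm : Commute x₁ x₂ := (mem_centralizer_iff.mp (hc12 hx₁) x₂ hx₂).symm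
  have hy : orderOf (x₁ * x₂) ∣ 2 ^ k₁ := by
    apply orderOf_dvd_of_pow_eq_one
    rw [hcomm.mul_pow, orderOf_dvd_iff_pow_eq_one.mp hk₁.dvd,
      orderOf_dvd_iff_pow_eq_one.mp (hk₂.dvd.trans (pow_dvd_pow 2 hle)), one_mul]
  obtain ⟨c, hc, hoy⟩ := (Nat.dvd_prime_pow Nat.prime_two).mp hy
  have hoz : orderOf (x₁ ^ 2 ^ (k₁ - c)) = 2 ^ c := by
    rw [orderOf_pow_of_dvd (pow_ne_zero _ two_ne_zero) (hk₁ ▸ pow_dvd_pow 2 (Nat.sub_le _ _)),
      hk₁, Nat.pow_div (Nat.sub_le _ _) two_pos, Nat.sub_sub_self hc]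
  haveI : Fact (Nat.Prime 2) := ⟨Nat.prime_two⟩
  obtain ⟨g, hg⟩ := hP (zpowers (x₁ ^ 2 ^ (k₁ - c))) (zpowers (x₁ * x₂)) inferInstance inferInstance
    (IsPGroup.of_card (n := c) (by rw [Nat.card_zpowers, hoz]))
    (by rw [Nat.card_zpowers, Nat.card_zpowers, hoz, hoy])
  have hyM : x₁ * x₂ ∈ L₁.map (MulAut.conj g).toMonoidHom := by
    refine map_mono ?_ (hg ▸ mem_zpowers (x₁ * x₂))
    rw [zpowers_le]
    exact pow_mem hx₁ _
  by_cases hM : L₁.map (MulAut.conj g).toMonoidHom = L₁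
  · rw [hM] at hyM
    refine hn₂ ?_
    have := mul_mem (inv_mem (hc12 hx₁)) (hc12 hyM)
    rwa [inv_mul_cancel_left] at this
  · have hcM : L₁.map (MulAut.conj g).toMonoidHom ≤ centralizer (L₁ : Set G) :=
      commutator_eq_bot_iff_le_centralizer.mp
        (IsComponent.commutator_eq_bot_of_ne (IsComponent.conj h₁ g) h₁ hM)
    refine hn₁ ?_
    have := mul_mem (hcM hyM) (inv_mem (hc21 hx₂))
    rwa [mul_inv_cancel_right] at this

/-- S3915: if cyclic `2`-subgroups of equal order are conjugate and the layer is nontrivial, the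
layer is quasisimple. -/
theorem layer_quotient_center_simple (hodd : OddSolvable.{u})
    (hP : ∀ (p : ℕ), p.Prime → ∀ A B : Subgroup G, IsCyclic ↥A → IsCyclic ↥B → IsPGroup p ↥A →
      Nat.card ↥A = Nat.card ↥B → ∃ g : G, B = A.map (MulAut.conj g).toMonoidHom)
    (hE : Cfsg.layer G ≠ ⊥) :
    IsSimpleGroup (↥(Cfsg.layer G) ⧸ Subgroup.center ↥(Cfsg.layer G)) ∧
      ¬ IsMulCommutative (↥(Cfsg.layer G) ⧸ Subgroup.center ↥(Cfsg.layer G)) := by
  rw [Ne, layer_eq_bot_iff] at hE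
  push Not at hE
  obtain ⟨L, hL⟩ := hE
  have heq : Cfsg.layer G = L := le_antisymm
    (sSup_le fun K hK => (component_eq_of_conjugate_cyclic hodd (hP 2 Nat.prime_two) hK hL).le)
    (IsComponent.le_layer hL)
  rw [heq]
  refine ⟨hL.2.2, fun hcomm => ?_⟩
  haveI := hL.2.1
  haveI := IsQuasisimple.nontrivial hL.2
  haveI := hL.2.2
  haveI : Group.IsPerfect (L ⧸ center L) :=
    Group.IsPerfect.ofSurjective (f := QuotientGroup.mk' (center L))
      (QuotientGroup.mk'_surjective _)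
  exact Group.IsPerfect.not_isMulCommutative (L ⧸ center L) hcomm

end CfsgLib.FT
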