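import Cfsg.Agent.DegreeBound.PSolvable
import Cfsg.Agent.DegreeBound.PrimeCase
import Cfsg.Agent.Characters.Burnside

/-!
# Groups whose nonlinear irreducible degrees are prime

Such a group is solvable: in a simple one the largest degree `p` is the order of a Sylow
`p`-subgroup, and the principal block then has a nontrivial character of degree `±1` modulo `p`.
-/

set_option autoImplicit false
set_option linter.unusedSectionVars false
set_option linter.style.haveILetI false

namespace CfsgLib.PrimeDegrees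

open Cfsg CfsgLib.Blocks CfsgLib.PrincipalBlock
open scoped ComplexConjugate

universe u

/-- Every nonlinear irreducible character has prime degree. -/
def AllPrimeDeg (G : Type u) [Group G] : Prop :=
  ∀ χ : IrrCharacter G, Cfsg.charDegree (χ : G → ℂ) ≠ 1 → (Cfsg.charDegree (χ : G → ℂ)).Prime

variable {G : Type u} [Group G] [Fintype G]

theorem AllPrimeDeg.quotient (h : AllPrimeDeg G) (N : Subgroup G) [N.Normal] :
    AllPrimeDeg (G ⧸ N) := fun φ hφ =>
  h ⟨fun g => (φ : G ⧸ N → ℂ) (QuotientGroup.mk' N g),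
    Characters.isIrr_comp (QuotientGroup.mk' N) (QuotientGroup.mk'_surjective N) φ.2⟩ hφ

theorem AllPrimeDeg.normal (h : AllPrimeDeg G) (N : Subgroup G) [N.Normal] :
    AllPrimeDeg N := fun θ hθ => by
  haveI := Fintype.ofFinite N
  obtain ⟨χ, hχ⟩ := Cfsg.Agent.S4713.dvd_of_constituent N θ
  have hd : Cfsg.charDegree (θ : N → ℂ) ∣ Cfsg.charDegree (χ : G → ℂ) :=
    (dvd_mul_left _ _).trans hχ
  by_cases h1 : Cfsg.charDegree (χ : G → ℂ) = 1
  · rw [h1] at hd
    exact absurd (Nat.dvd_one.1 hd) hθ
  · rcases (Nat.dvd_prime (h χ h1)).1 hd with h2 | h2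
    · exact absurd h2 hθ
    · rw [h2]; exact h χ h1

/-- At a central element every irreducible character has full absolute value. -/
theorem norm_eq_degree_of_central {P : Type u} [Group P] [Fintype P] {z : P}
    (hz : ∀ x : P, x * z = z * x) (ψ : IrrCharacter P) :
    ‖(ψ : P → ℂ) z‖ = (Cfsg.charDegree (ψ : P → ℂ) : ℝ) := by
  classical
  have key : ∀ w : P, (∀ x : P, x * w = w * x) →
      ∑ φ : IrrCharacter P, ‖(φ : P → ℂ) w‖ ^ 2 = (Nat.card P : ℝ) := by
    intro w hw
    have h := Characters.sum_irr_mul_conj w w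
    rw [Nat.card_congr (Equiv.subtypeUnivEquiv fun x : P => mul_inv_eq_of_eq_mul (hw x))] at h
    have h2 : ((∑ φ : IrrCharacter P, ‖(φ : P → ℂ) w‖ ^ 2 : ℝ) : ℂ) = (Nat.card P : ℂ) := by
      rw [← h]
      push_cast
      exact Finset.sum_congr rfl fun φ _ => (Complex.mul_conj' _).symm
    exact_mod_cast h2
  have h1 : ∀ φ : IrrCharacter P, ‖(φ : P → ℂ) 1‖ = (Cfsg.charDegree (φ : P → ℂ) : ℝ) :=
    fun φ => by rw [← charDegree_cast φ, Complex.norm_natCast]
  have hle : ∀ φ : IrrCharacter P, ‖(φ : P → ℂ) z‖ ^ 2 ≤ ‖(φ : P → ℂ) 1‖ ^ 2 := by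
    intro φ
    obtain ⟨n, ρ, -, hρ⟩ := φ.2
    have hb := Characters.norm_char_le ρ z
    rw [← hρ, Representation.char_one, Complex.norm_natCast]
    gcongr
  have heq := (Finset.sum_eq_sum_iff_of_le fun φ _ => hle φ).1
    ((key z hz).trans (key 1 fun x => by simp).symm) ψ (Finset.mem_univ _)
  rw [← h1]
  exact (sq_eq_sq₀ (norm_nonneg _) (norm_nonneg _)).1 heq

/-- In a simple group a faithful prime degree divides the order exactly once. -/
theorem card_sylow_of_prime_degree [IsSimpleGroup G] (hna : ¬ IsMulCommutative G) {p : ℕ}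
    [Fact p.Prime] (χ : IrrCharacter G) (hdeg : Cfsg.charDegree (χ : G → ℂ) = p) (P : Sylow p G) :
    Nat.card (P : Subgroup G) = p := by
  classical
  have hp : p.Prime := Fact.out
  obtain ⟨n, ρ, hρirr, hρ⟩ := id χ.2
  have hnp : n = p := by
    have := charDegree_cast χ
    rw [hdeg, ← hρ, Representation.char_one, Module.finrank_fin_fun] at this
    exact_mod_cast this.symm
  subst hnp
  haveI := Fintype.ofFinite (P : Subgroup G)
  have hnorm : ∀ g : G, ‖(χ : G → ℂ) g‖ = n → g = 1 := by
    intro g hg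
    rw [← hρ] at hg
    obtain ⟨ω, hω, -⟩ := Characters.exists_scalar_of_norm_char_eq ρ g
      (by rw [hg, Module.finrank_fin_fun])
    rcases IsSimpleGroup.eq_bot_or_eq_top_of_normal ρ.ker inferInstance with hk | hk
    · rcases IsSimpleGroup.eq_bot_or_eq_top_of_normal (Subgroup.center G) inferInstance with hc | hc
      · rw [← Subgroup.mem_bot, ← hc, Subgroup.mem_center_iff]
        intro x
        refine (MonoidHom.ker_eq_bot_iff ρ).1 hk ?_
        rw [map_mul, map_mul, hω]
        ext v; simp
      · exact absurd ⟨⟨fun a b => (Subgroup.mem_center_iff.1 (hc ▸ Subgroup.mem_top b) a)⟩⟩ hna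
    · exfalso
      have hconst : ∀ x : G, (χ : G → ℂ) x = (n : ℂ) := fun x => by
        rw [← hρ, Representation.character,
          MonoidHom.mem_ker.1 (show x ∈ ρ.ker from hk ▸ Subgroup.mem_top x)]
        simp [LinearMap.trace_one]
      have hfun : (χ : G → ℂ) = (n : ℂ) • (fun _ : G => (1 : ℂ)) := funext fun x => by
        simp [hconst x]
      have h1 := Characters.classInner_isIrr_self χ.2
      have hne : (χ : G → ℂ) ≠ fun _ => 1 := fun h0 => by
        have := hconst 1
        rw [h0] at this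
        exact hp.ne_one (Nat.cast_eq_one.1 this.symm)
      have h2 := Characters.classInner_isIrr_ne χ.2 Characters.isIrr_one hne
      rw [hfun, Characters.classInner_smul_left,
        Characters.classInner_isIrr_self Characters.isIrr_one, mul_one] at h2
      exact hp.ne_zero (by exact_mod_cast h2)
  -- the restriction to the Sylow subgroup
  obtain ⟨m, hm⟩ := Characters.exists_nat_coeff
    (Characters.isCharacter_restrict (P : Subgroup G) (Characters.isCharacter_of_isIrr χ.2))
  have hmdeg : n = ∑ ψ : IrrCharacter (P : Subgroup G),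
      m ψ * Cfsg.charDegree (ψ : ↥(P : Subgroup G) → ℂ) := by
    apply Nat.cast_injective (R := ℂ)
    have := congrFun hm 1
    simp only [Finset.sum_apply, Pi.smul_apply, smul_eq_mul, Subgroup.coe_one] at this
    have h2 : (χ : G → ℂ) 1 = (n : ℂ) := by rw [← charDegree_cast χ, hdeg]
    rw [← h2, this]
    push_cast
    exact Finset.sum_congr rfl fun ψ _ => by rw [charDegree_cast ψ]
  have hvanish : ∀ z : (P : Subgroup G), (∀ x : (P : Subgroup G), x * z = z * x) → z ≠ 1 →
      (χ : G → ℂ) z = 0 := by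
    intro z hz hz1
    haveI := hρirr
    have hcop : Nat.Coprime (Module.finrank ℂ (Fin n → ℂ))
        (Subgroup.centralizer ({(z : G)} : Set G)).index := by
      rw [Module.finrank_fin_fun, hp.coprime_iff_not_dvd]
      intro hd
      refine P.not_dvd_index (hd.trans (Subgroup.index_dvd_of_le fun x hx => ?_))
      exact Subgroup.mem_centralizer_singleton_iff.2 (congrArg Subtype.val (hz ⟨x, hx⟩))
    rcases Characters.char_zero_or_norm_of_coprime ρ (z : G) hcop with h | h
    · rw [← hρ]; exact h
    · rw [Module.finrank_fin_fun, hρ] at h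
      exact absurd (Subtype.ext (hnorm _ h)) hz1
  have hne : Nontrivial (P : Subgroup G) := by
    refine Finite.one_lt_card_iff_nontrivial.1 ?_
    have hd : n ∣ Nat.card G := hdeg ▸ Blocks.charDegree_dvd_card χ
    exact lt_of_lt_of_le hp.one_lt (Nat.le_of_dvd Nat.card_pos (P.dvd_card_of_dvd_card hd))
  -- all constituents are linear
  have hlin : ∀ ψ : IrrCharacter (P : Subgroup G), m ψ ≠ 0 → (ψ : ↥(P : Subgroup G) → ℂ) 1 = 1 := by
    intro ψ hψ
    obtain ⟨k, hk⟩ := IsPGroup.iff_card.1 P.2
    obtain ⟨j, -, hj⟩ := (Nat.dvd_prime_pow hp).1 (hk ▸ Blocks.charDegree_dvd_card ψ)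
    cases j with
    | zero => rw [← charDegree_cast ψ, hj, pow_zero, Nat.cast_one]
    | succ j =>
      exfalso
      have hge : n ≤ m ψ * Cfsg.charDegree (ψ : ↥(P : Subgroup G) → ℂ) :=
        le_mul_of_one_le_of_le (Nat.one_le_iff_ne_zero.2 hψ)
          (hj ▸ Nat.le_self_pow j.succ_ne_zero n)
      have hz := Finset.sum_eq_sum_iff_of_le (s := Finset.univ)
        (f := fun φ => if φ = ψ then m φ * Cfsg.charDegree (φ : ↥(P : Subgroup G) → ℂ) else 0)
        (g := fun φ => m φ * Cfsg.charDegree (φ : ↥(P : Subgroup G) → ℂ))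
        (fun φ _ => by split_ifs <;> simp)
      have hall : ∀ φ, φ ≠ ψ → m φ = 0 := by
        intro φ hφ
        have := (hz.1 (le_antisymm (Finset.sum_le_sum fun φ _ => by split_ifs <;> simp)
          (by rw [Finset.sum_ite_eq' Finset.univ ψ, if_pos (Finset.mem_univ _), ← hmdeg]
              exact hge))) φ (Finset.mem_univ _)
        rw [if_neg hφ] at this
        rcases Nat.mul_eq_zero.1 this.symm with h | h
        · exact h
        · exact absurd h (charDegree_ne_zero φ)
      obtain ⟨z, hz, hz1⟩ : ∃ z : (P : Subgroup G), z ∈ Subgroup.center (P : Subgroup G) ∧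
          z ≠ 1 := by
        haveI := P.2.center_nontrivial
        obtain ⟨⟨z, hz⟩, hz1⟩ := exists_ne (1 : Subgroup.center (P : Subgroup G))
        exact ⟨z, hz, fun h => hz1 (Subtype.ext h)⟩
      have hc : ∀ x : (P : Subgroup G), x * z = z * x := fun x => Subgroup.mem_center_iff.1 hz x
      have h0 := congrFun hm z
      simp only [Finset.sum_apply, Pi.smul_apply, smul_eq_mul] at h0
      rw [hvanish z hc hz1, Finset.sum_eq_single ψ
        (fun φ _ hφ => by rw [hall φ hφ, Nat.cast_zero, zero_mul])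
        (fun h => absurd (Finset.mem_univ _) h)] at h0
      have hn0 := norm_eq_degree_of_central hc ψ
      rcases mul_eq_zero.1 h0.symm with h | h
      · exact hψ (by exact_mod_cast h)
      · rw [h, norm_zero] at hn0
        exact charDegree_ne_zero ψ (by exact_mod_cast hn0.symm)
  have habel : ∀ a b : (P : Subgroup G), a * b = b * a := by
    intro a b
    have h0 := congrFun hm (a * b * a⁻¹ * b⁻¹)
    simp only [Finset.sum_apply, Pi.smul_apply, smul_eq_mul] at h0
    have h1 : (χ : G → ℂ) ((a * b * a⁻¹ * b⁻¹ : (P : Subgroup G)) : G) = (n : ℂ) := by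
      rw [h0]
      refine Eq.trans ?_ (congrArg (Nat.cast (R := ℂ)) hmdeg).symm
      rw [Nat.cast_sum]
      refine Finset.sum_congr rfl fun ψ _ => ?_
      rcases eq_or_ne (m ψ) 0 with h | h
      · simp [h]
      obtain ⟨f, hf⟩ := Characters.exists_hom_of_degree_one
        (Characters.isCharacter_of_isIrr ψ.2) (hlin ψ h)
      rw [Nat.cast_mul, charDegree_cast ψ, hlin ψ h, hf]
      simp only [map_mul, map_inv]
      rw [mul_comm (f a) (f b), mul_inv_cancel_right, mul_inv_cancel, Units.val_one]
    have h2 := hnorm _ (by rw [h1, Complex.norm_natCast])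
    have h3 : a * b * a⁻¹ * b⁻¹ = 1 := Subtype.ext h2
    rwa [mul_inv_eq_one, mul_inv_eq_iff_eq_mul] at h3
  -- so the character is a multiple of the regular one
  have hsum : ∑ x : (P : Subgroup G), (χ : G → ℂ) x = (n : ℂ) := by
    rw [Finset.sum_eq_single (1 : (P : Subgroup G))
      (fun x _ hx => hvanish x (fun y => habel y x) hx) (fun h => absurd (Finset.mem_univ _) h),
      Subgroup.coe_one, ← charDegree_cast χ, hdeg]
  let one : IrrCharacter (P : Subgroup G) := ⟨fun _ => 1, Characters.isIrr_one⟩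
  have hcoeff : Cfsg.classInner (fun x : (P : Subgroup G) => (χ : G → ℂ) x)
      (one : ↥(P : Subgroup G) → ℂ) = (m one : ℂ) := by
    rw [hm, Characters.classInner_irr_coeff (fun ψ => (m ψ : ℂ))]
  simp only [Cfsg.classInner, one, map_one, mul_one] at hcoeff
  rw [hsum, inv_mul_eq_iff_eq_mul₀ (Nat.cast_ne_zero.2 Nat.card_pos.ne')] at hcoeff
  have hd : Nat.card (P : Subgroup G) ∣ n := ⟨m one, by exact_mod_cast hcoeff⟩
  rcases (Nat.dvd_prime hp).1 hd with h | h
  · exact absurd h (Finite.one_lt_card_iff_nontrivial.2 hne).ne'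
  · exact h

/-- No nonabelian simple group has all nonlinear degrees prime. -/
theorem false_of_isSimpleGroup [IsSimpleGroup G] (hna : ¬ IsMulCommutative G)
    (h : AllPrimeDeg G) : False := by
  classical
  obtain ⟨χ₀, -, hmax⟩ := Finset.exists_max_image (Finset.univ : Finset (IrrCharacter G))
    (fun χ => Cfsg.charDegree (χ : G → ℂ)) ⟨trivChar G, Finset.mem_univ _⟩
  set p := Cfsg.charDegree (χ₀ : G → ℂ) with hpdef
  have hsol : ¬ Group.IsSolvable G := fun hs => hna ⟨⟨IsSimpleGroup.comm_iff_isSolvable.2 hs⟩⟩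
  have h5 : 5 ≤ p := by
    by_contra hp5
    have hprimes : ∀ s : ℕ, s.Prime → s ∣ Nat.card G → s = 2 ∨ s = 3 := by
      intro s hs hsd
      by_contra hne
      push Not at hne
      have hs5 : 5 ≤ s := by
        have := hs.two_le
        have : s ≠ 4 := by rintro rfl; norm_num at hs
        omega
      haveI := Fact.mk hs
      obtain ⟨P⟩ := (inferInstance : Nonempty (Sylow s G))
      have hlt : DegreeBound.AllLt s G := fun χ => by
        have := hmax χ (Finset.mem_univ _)
        omega
      obtain ⟨hn, hc⟩ := DegreeBound.normal_abelian_sylow hlt P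
      rcases hn.eq_bot_or_eq_top with h0 | h0
      · exact P.not_dvd_index (by rw [h0, Subgroup.index_bot]; exact hsd)
      · exact hna ⟨⟨fun a b => hc a (h0 ▸ Subgroup.mem_top a) b (h0 ▸ Subgroup.mem_top b)⟩⟩
    refine hsol (Characters.isSolvable_of_card_eq_primePow_mul 2 3
      ((Nat.card G).factorization 2) ((Nat.card G).factorization 3) Nat.prime_two Nat.prime_three ?_)
    refine dvd_of_eq (Nat.eq_of_factorization_eq (Nat.card_pos (α := G)).ne'
      (mul_ne_zero (pow_ne_zero _ Nat.prime_two.ne_zero) (pow_ne_zero _ Nat.prime_three.ne_zero))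
      fun s => ?_)
    rw [Nat.factorization_mul (pow_ne_zero _ Nat.prime_two.ne_zero)
      (pow_ne_zero _ Nat.prime_three.ne_zero), Nat.prime_two.factorization_pow,
      Nat.prime_three.factorization_pow, Finsupp.add_apply]
    by_cases hs : s.Prime ∧ s ∣ Nat.card G
    · rcases hprimes s hs.1 hs.2 with rfl | rfl <;> simp
    · have h0 : (Nat.card G).factorization s = 0 := by
        rcases not_and_or.1 hs with hs | hs
        · exact Nat.factorization_eq_zero_of_not_prime _ hs
        · exact Nat.factorization_eq_zero_of_not_dvd hs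
      rcases eq_or_ne s 2 with rfl | h2
      · simp
      rcases eq_or_ne s 3 with rfl | h3
      · simp
      rw [Nat.card_eq_fintype_card] at h0
      simp [h0, h2.symm, h3.symm]
  have hp : p.Prime := h χ₀ (by omega)
  haveI := Fact.mk hp
  have hodd : p ≠ 2 := by omega
  obtain ⟨P⟩ := (inferInstance : Nonempty (Sylow p G))
  have hP := card_sylow_of_prime_degree hna χ₀ hpdef.symm P
  obtain ⟨M, hM⟩ := exists_isPModular p hp
  haveI := hM.2.1.isPrime
  set N := Subgroup.normalizer ((P : Subgroup G) : Set G) with hN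
  set C := Subgroup.centralizer ((P : Subgroup G) : Set G) with hC
  have hPne : (P : Subgroup G) ≠ ⊥ := fun h0 => by
    rw [h0, Subgroup.card_bot] at hP; exact hp.ne_one hP.symm
  have hPtop : (P : Subgroup G) ≠ ⊤ := fun h0 => by
    apply hna
    haveI : IsCyclic (P : Subgroup G) := isCyclic_of_prime_card hP
    refine ⟨⟨fun a b => ?_⟩⟩
    letI := IsCyclic.commGroup (α := (P : Subgroup G))
    exact congrArg Subtype.val (mul_comm (⟨a, h0 ▸ Subgroup.mem_top a⟩ : (P : Subgroup G))
      ⟨b, h0 ▸ Subgroup.mem_top b⟩)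
  set e := C.relIndex N with he
  have he2 : 2 ≤ e := by
    have h0 : e ≠ 0 := Subgroup.index_ne_zero_of_finite
    by_contra h1
    have hle : N ≤ C := Subgroup.relIndex_eq_one.1 (show e = 1 by omega)
    have hcomp := MonoidHom.ker_transferSylow_isComplement' P hle
    rcases (IsSimpleGroup.eq_bot_or_eq_top_of_normal (MonoidHom.transferSylow P hle).ker
      inferInstance) with h | h <;> rw [h] at hcomp
    · exact hPtop (Subgroup.isComplement'_bot_left.1 hcomp)
    · exact hPne (Subgroup.isComplement'_top_left.1 hcomp)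
  obtain ⟨X, Y, -, -, hX, -, εX, -, hXs, -⟩ :=
    Cfsg.Agent.S4441.result p M hM hodd P hP e rfl
  obtain ⟨χ, hχ, hne⟩ : ∃ χ ∈ X, χ ≠ trivChar G := by
    by_contra hall
    push Not at hall
    have h1 : X.ncard ≤ ({trivChar G} : Set (IrrCharacter G)).ncard :=
      Set.ncard_le_ncard (fun χ hχ => hall χ hχ)
    rw [Set.ncard_singleton, ← Nat.card_coe_set_eq, hX] at h1
    omega
  obtain ⟨hs, hmod, -⟩ := hXs χ hχ
  have hd1 : Cfsg.charDegree (χ : G → ℂ) ≠ 1 := fun h1 =>
    hne (SylowPrimeOrder.eq_trivChar_of_degree_one hna h1)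
  have hq := h χ hd1
  have hle := hmax χ (Finset.mem_univ _)
  have hq2 := hq.two_le
  obtain ⟨a, ha⟩ := Int.modEq_iff_dvd.1 hmod.symm
  rcases hs with hs | hs <;> rw [hs] at ha
  · have hd : p ∣ Cfsg.charDegree (χ : G → ℂ) - 1 := Int.natCast_dvd_natCast.1
      ⟨a, by rw [Nat.cast_sub (by omega)]; push_cast; linarith⟩
    have := Nat.le_of_dvd (by omega) hd
    omega
  · clear hmod
    have hd : p ∣ Cfsg.charDegree (χ : G → ℂ) + 1 :=
      Int.natCast_dvd_natCast.1 ⟨a, by push_cast; linarith⟩
    have := Nat.le_of_dvd (by omega) hd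
    have hne' : Cfsg.charDegree (χ : G → ℂ) ≠ p := fun h1 => by
      rw [h1] at hd
      exact hp.ne_one (Nat.dvd_one.1 ((Nat.dvd_add_right dvd_rfl).1 hd))
    have hev : 2 ∣ Cfsg.charDegree (χ : G → ℂ) := by
      obtain ⟨k, hk⟩ := hp.odd_of_ne_two hodd
      omega
    have := (Nat.prime_dvd_prime_iff_eq Nat.prime_two hq).1 hev
    omega

omit [Fintype G] in
/-- A group whose nonlinear degrees are prime is solvable. -/
theorem isSolvable_of_allPrimeDeg [Finite G] (h : AllPrimeDeg G) : Group.IsSolvable G := by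
  suffices key : ∀ (n : ℕ) (K : Type u) [Group K] [Fintype K], Nat.card K = n → AllPrimeDeg K →
      Group.IsSolvable K by
    haveI := Fintype.ofFinite G
    exact key _ G rfl h
  intro n
  induction n using Nat.strongRecOn with
  | ind n ih =>
  intro K _ _ hn hK
  subst hn
  classical
  by_cases hL : ∃ L : Subgroup K, L.Normal ∧ L ≠ ⊥ ∧ L ≠ ⊤
  · obtain ⟨L, hLn, hL0, hLt⟩ := hL
    haveI := Fintype.ofFinite (K ⧸ L)
    haveI := Fintype.ofFinite L
    haveI : Group.IsSolvable L := ih _ (lt_of_le_of_ne (Subgroup.card_le_card_group L)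
      fun h => hLt (Subgroup.eq_top_of_card_eq L h)) L rfl (hK.normal L)
    haveI : Group.IsSolvable (K ⧸ L) := ih _ (by
      rw [Subgroup.card_eq_card_quotient_mul_card_subgroup L]
      exact lt_mul_of_one_lt_right Nat.card_pos (L.one_lt_card_iff_ne_bot.2 hL0))
      (K ⧸ L) rfl (hK.quotient L)
    exact Group.isSolvable_of_ker_le_range L.subtype (QuotientGroup.mk' L) (by simp)
  push Not at hL
  by_cases hc : IsMulCommutative K
  · exact Group.isSolvable_of_comm fun a b => hc.is_comm.comm a b
  exfalso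
  haveI : Nontrivial K := not_subsingleton_iff_nontrivial.1 fun hs =>
    hc ⟨⟨fun a b => Subsingleton.elim _ _⟩⟩
  haveI : IsSimpleGroup K := ⟨fun L hLn => by
    by_cases h0 : L = ⊥
    · exact Or.inl h0
    · exact Or.inr (hL L hLn h0)⟩
  exact false_of_isSimpleGroup hc hK

end CfsgLib.PrimeDegrees
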