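import Cfsg.Agent.FT.Basic
import Cfsg.Agent.FT.MetacyclicSylow
import Cfsg.Agent.Small.BaerSuzuki
import Cfsg.Agent.OddOrderChar.CoprimeCoset
import Cfsg.Agent.Transfer.Frobenius
import Cfsg.Agent.PLocal.Cores

/-!
# Real classes with equal 2-parts (S4193), from the odd order theorem

* all involutions central: Frobenius' criterion gives a normal 2-complement;
* otherwise real classes have odd size, no nontrivial element of odd order is real, and Baer–Suzuki
  makes the Sylow 2-subgroup normal.
-/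

set_option autoImplicit false
set_option linter.style.haveILetI false

namespace CfsgLib.FT

open Subgroup
open scoped Pointwise

universe u

variable {G : Type u} [Group G] [Finite G]

/-- No nontrivial element of odd order is conjugate to its inverse. -/
def NoRealOdd (G : Type*) [Group G] : Prop :=
  ∀ x g : G, Odd (orderOf x) → g * x * g⁻¹ = x⁻¹ → x = 1

/-- If no nontrivial element of odd order is real, involutions lie in `O₂`. -/
theorem mem_pCore_of_noRealOdd (h : NoRealOdd G) {t : G} (ht : t * t = 1) :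
    t ∈ Cfsg.pCore 2 G := by
  haveI : Fact (Nat.Prime 2) := ⟨Nat.prime_two⟩
  obtain ⟨N, hN, hNp, htN⟩ := Small.baerSuzuki_elem (p := 2) t fun g => by
    have ht' : t⁻¹ = t := inv_eq_of_mul_eq_one_right ht
    have hu : (g * t * g⁻¹)⁻¹ = g * t * g⁻¹ := by rw [mul_inv_rev, mul_inv_rev, inv_inv, ht', mul_assoc]
    set d := t * (g * t * g⁻¹) with hd
    have hinv : t * d * t⁻¹ = d⁻¹ := by
      rw [hd, mul_inv_rev, hu, ← mul_assoc t t, ht, one_mul, ht']
    obtain ⟨k, m, hmodd, hkm⟩ := Nat.exists_eq_two_pow_mul_odd (orderOf_pos d).ne'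
    have ho : orderOf (d ^ 2 ^ k) = m := by
      rw [orderOf_pow_of_dvd (pow_ne_zero k two_ne_zero) (hkm ▸ dvd_mul_right _ _), hkm,
        Nat.mul_div_cancel_left _ (pow_pos two_pos k)]
    have he : d ^ 2 ^ k = 1 := h _ t (ho.symm ▸ hmodd) (by rw [← conj_pow, hinv, inv_pow])
    have hdp : IsPGroup 2 (zpowers d) := by
      obtain ⟨j, -, hj⟩ := (Nat.dvd_prime_pow Nat.prime_two).1 (orderOf_dvd_of_pow_eq_one he)
      exact IsPGroup.of_card (n := j) (by rw [Nat.card_zpowers, hj])
    have htp : IsPGroup 2 (zpowers t) := by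
      obtain ⟨j, -, hj⟩ := (Nat.dvd_prime_pow Nat.prime_two).1
        (show orderOf t ∣ 2 ^ 1 from orderOf_dvd_of_pow_eq_one (by rw [pow_one, pow_two, ht]))
      exact IsPGroup.of_card (n := j) (by rw [Nat.card_zpowers, hj])
    have hnorm : zpowers t ≤ normalizer (zpowers d : Set G) := by
      rw [zpowers_le, mem_normalizer_iff]
      intro z
      constructor
      · intro hz
        obtain ⟨i, rfl⟩ := mem_zpowers_iff.1 hz
        rw [← conj_zpow, hinv]
        exact zpow_mem (inv_mem (mem_zpowers d)) i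
      · intro hz
        obtain ⟨i, hi⟩ := mem_zpowers_iff.1 hz
        have : z = t * d ^ i * t⁻¹ := by
          rw [hi, ht', mul_assoc, mul_assoc, mul_assoc, ht, mul_one, ← mul_assoc, ht, one_mul]
        rw [this, ← conj_zpow, hinv]
        exact zpow_mem (inv_mem (mem_zpowers d)) i
    refine (htp.to_sup_of_normal_right' hdp hnorm).to_le ((closure_le _).2 ?_)
    rintro x (rfl | rfl)
    · exact mem_sup_left (mem_zpowers _)
    · rw [show g * t * g⁻¹ = t * d by rw [hd, ← mul_assoc, ht, one_mul]]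
      exact mul_mem (mem_sup_left (mem_zpowers _)) (mem_sup_right (mem_zpowers _))
  exact (le_sSup (a := N) ⟨hN, hNp⟩ : N ≤ Cfsg.pCore 2 G) htN

/-- Real elements of odd order lift along quotients by `2`-subgroups. -/
theorem noRealOdd_quotient (h : NoRealOdd G) (N : Subgroup G) [N.Normal] (hN : IsPGroup 2 N) :
    NoRealOdd (G ⧸ N) := by
  intro xb gb hxb hgb
  haveI : Fact (Nat.Prime 2) := ⟨Nat.prime_two⟩
  obtain ⟨y, rfl⟩ := QuotientGroup.mk'_surjective N xb
  obtain ⟨g, rfl⟩ := QuotientGroup.mk'_surjective N gb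
  obtain ⟨k, m, hmodd, hkm⟩ := Nat.exists_eq_two_pow_mul_odd (orderOf_pos y).ne'
  set x := y ^ 2 ^ k with hx
  have ho : orderOf x = m := by
    rw [hx, orderOf_pow_of_dvd (pow_ne_zero k two_ne_zero) (hkm ▸ dvd_mul_right _ _), hkm,
      Nat.mul_div_cancel_left _ (pow_pos two_pos k)]
  have hgx : g * x * g⁻¹ * x ∈ N := by
    rw [← QuotientGroup.eq_one_iff, ← QuotientGroup.mk'_apply, map_mul, map_mul, map_mul, map_inv,
      hx, map_pow, ← conj_pow, hgb, inv_pow, inv_mul_cancel]
  have hx1 : x = 1 := by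
    obtain ⟨j, hj⟩ := IsPGroup.iff_card.1 hN
    obtain ⟨a, ha, c, hc, hcx, hac⟩ := OddOrderChar.exists_conj_coset_fixed N x⁻¹
      (le_normalizer_of_normal (mem_top _))
      (by rw [orderOf_inv, ho, hj]; exact (Nat.coprime_two_right.2 hmodd).pow_right j)
      _ hgx
    rw [mul_inv_cancel_right] at hac
    have hconj : a * g * x * (a * g)⁻¹ = c * x⁻¹ := by rw [← hac]; group
    have hc1 : c = 1 := by
      have h1 : c ^ m = 1 := by
        have h2 : (a * g * x * (a * g)⁻¹) ^ m = (c * x⁻¹) ^ m := by rw [hconj]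
        rw [conj_pow, (show Commute c x⁻¹ from hcx).mul_pow, inv_pow, ← ho, pow_orderOf_eq_one,
          inv_one, mul_one, mul_one, mul_inv_cancel] at h2
        rw [← ho, ← h2]
      obtain ⟨i, hi⟩ := IsPGroup.iff_orderOf.1 hN ⟨c, hc⟩
      rw [Subgroup.orderOf_mk] at hi
      refine orderOf_eq_one_iff.1 (Nat.eq_one_of_dvd_coprimes
        ((Nat.coprime_two_left.2 hmodd).pow_left i) hi.dvd (orderOf_dvd_of_pow_eq_one h1))
    rw [hc1, one_mul] at hconj
    exact h x (a * g) (ho.symm ▸ hmodd) hconj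
  refine orderOf_eq_one_iff.1 (Nat.eq_one_of_dvd_coprimes
    ((Nat.coprime_two_right.2 hxb).pow_right k) dvd_rfl (orderOf_dvd_of_pow_eq_one ?_))
  rw [← map_pow, ← hx, hx1, map_one]

theorem odd_card_quotient_pCore (h : NoRealOdd G) : Odd (Nat.card (G ⧸ Cfsg.pCore 2 G)) := by
  haveI : Fact (Nat.Prime 2) := ⟨Nat.prime_two⟩
  rw [← Nat.not_even_iff_odd, even_iff_two_dvd]
  intro h2
  obtain ⟨t, ht⟩ := exists_prime_orderOf_dvd_card' 2 h2
  have h1 := mem_pCore_of_noRealOdd
    (noRealOdd_quotient h _ (PLocal.isPGroup_pCore 2 G))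
    (t := t) (by have h3 := pow_orderOf_eq_one t; rw [ht, pow_two] at h3; exact h3)
  rw [PLocal.pCore_quotient_pCore_eq_bot, mem_bot] at h1
  rw [h1, orderOf_one] at ht
  exact absurd ht (by norm_num)

theorem hasNormalPComplement_of_isPGroup {K : Type*} [Group K] [Finite K] (h : IsPGroup 2 K) :
    Cfsg.HasNormalPComplement 2 K := by
  haveI : Fact (Nat.Prime 2) := ⟨Nat.prime_two⟩
  let P : Sylow 2 K := default
  refine ⟨P, ⊥, inferInstance, ?_⟩
  rw [show (P : Subgroup K) = ⊤ from (P.3 (h.to_subgroup ⊤) le_top).symm]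
  exact isComplement'_bot_top

/-- S4193. -/
theorem real_classes_two_part (hodd : OddSolvable.{u}) (a : ℕ)
    (h : ∀ x : G, IsConj x x⁻¹ → x ∉ Subgroup.center G →
      ((Subgroup.centralizer ({x} : Set G)).index).factorization 2 = a)
    (S : Sylow 2 G)
    (hS : ∀ s : ↥(S : Subgroup G), IsConj s s⁻¹ → s ∈ Subgroup.center ↥(S : Subgroup G)) :
    Group.IsSolvable G ∧ Cfsg.HasNormalPComplement 2
      ↥(Subgroup.closure {g : G | ∃ k : ℕ, orderOf g = 2 ^ k}) := by
  haveI : Fact (Nat.Prime 2) := ⟨Nat.prime_two⟩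
  -- a 2-element inverted inside a 2-subgroup commutes with it
  have hreal : ∀ Q : Subgroup G, IsPGroup 2 Q → ∀ w ∈ Q, ∀ y ∈ Q, y * w * y⁻¹ = w⁻¹ →
      ∀ z ∈ Q, Commute z w := by
    intro Q hQ w hw y hy hyw z hz
    obtain ⟨T, hT⟩ := hQ.exists_le_sylow
    obtain ⟨g, rfl⟩ := MulAction.exists_smul_eq G S T
    have hmem : ∀ q ∈ Q, g⁻¹ * q * g ∈ (S : Subgroup G) := fun q hq => by
      have h1 : q ∈ MulAut.conj g • (S : Subgroup G) := hT hq
      rw [mem_pointwise_smul_iff_inv_smul_mem] at h1
      simpa using h1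
    have hc := hS ⟨_, hmem w hw⟩ (isConj_iff.2 ⟨⟨_, hmem y hy⟩, Subtype.ext (by
      show g⁻¹ * y * g * (g⁻¹ * w * g) * (g⁻¹ * y * g)⁻¹ = (g⁻¹ * w * g)⁻¹
      have : g⁻¹ * y * g * (g⁻¹ * w * g) * (g⁻¹ * y * g)⁻¹ = g⁻¹ * (y * w * y⁻¹) * g := by group
      rw [this, hyw]
      group)⟩)
    have hcz := congrArg Subtype.val (mem_center_iff.1 hc ⟨_, hmem z hz⟩)
    simp only [Subgroup.coe_mul] at hcz
    calc z * w = g * (g⁻¹ * z * g * (g⁻¹ * w * g)) * g⁻¹ := by group
      _ = g * (g⁻¹ * w * g * (g⁻¹ * z * g)) * g⁻¹ := by rw [hcz]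
      _ = w * z := by group
  by_cases hinv : ∀ t : G, t * t = 1 → t ∈ center G
  · -- all involutions central
    have hloc : ∀ Q : Subgroup G, IsPGroup 2 Q → ∀ u ∈ normalizer (Q : Set G),
        Nat.Coprime (orderOf u) 2 → u ∈ centralizer (Q : Set G) := by
      intro Q hQ u hu hucop
      suffices key : ∀ n, ∀ y ∈ Q, orderOf y = n → u * y * u⁻¹ = y from
        mem_centralizer_iff.2 fun y hy => (mul_inv_eq_iff_eq_mul.1 (key _ y hy rfl)).symm
      intro n
      induction n using Nat.strong_induction_on with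
      | _ n ih =>
      intro y hy hn
      by_cases hy1 : y = 1
      · simp [hy1]
      obtain ⟨k, hk⟩ := IsPGroup.iff_orderOf.1 hQ ⟨y, hy⟩
      rw [Subgroup.orderOf_mk] at hk
      have hk0 : k ≠ 0 := by
        rintro rfl
        exact hy1 (orderOf_eq_one_iff.1 hk)
      have h2 : 2 ∣ orderOf y := hk ▸ dvd_pow_self 2 hk0
      have hy2 : u * y ^ 2 * u⁻¹ = y ^ 2 := ih (orderOf (y ^ 2))
        (by
          rw [orderOf_pow_of_dvd two_ne_zero h2, ← hn]
          exact Nat.div_lt_self (orderOf_pos y) one_lt_two) _ (pow_mem hy 2) rfl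
      set y' := u * y * u⁻¹ with hy'
      have hy'Q : y' ∈ Q := (mem_normalizer_iff.1 hu y).1 hy
      have hsq : y' * y' = y * y := by
        rw [← pow_two, ← pow_two, hy', conj_pow, hy2]
      set w := y⁻¹ * y' with hw
      have hyw : y⁻¹ * w * y⁻¹⁻¹ = w⁻¹ := by
        rw [hw, mul_inv_rev, inv_inv]
        apply mul_left_cancel (a := y')
        rw [mul_inv_cancel_left]
        calc y' * (y⁻¹ * (y⁻¹ * y') * y) = y' * ((y * y)⁻¹ * y') * y := by group
          _ = y' * ((y' * y')⁻¹ * y') * y := by rw [hsq]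
          _ = y := by group
      have hwQ : w ∈ Q := mul_mem (inv_mem hy) hy'Q
      have hwy : Commute y w := hreal Q hQ w hwQ y⁻¹ (inv_mem hy) hyw y hy
      have hw2 : w * w = 1 := by
        have : y⁻¹ * w * y⁻¹⁻¹ = w := by rw [inv_inv, mul_assoc, ← hwy.eq, inv_mul_cancel_left]
        rw [hyw] at this
        nth_rewrite 1 [← this]
        exact inv_mul_cancel w
      have hwc := mem_center_iff.1 (hinv w hw2)
      have hit : ∀ i : ℕ, u ^ i * y * (u ^ i)⁻¹ = y * w ^ i := fun i => by
        induction i with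
        | zero => simp
        | succ i ihi =>
          calc u ^ (i + 1) * y * (u ^ (i + 1))⁻¹ = u * (u ^ i * y * (u ^ i)⁻¹) * u⁻¹ := by
                rw [pow_succ']; group
            _ = u * (y * w ^ i) * u⁻¹ := by rw [ihi]
            _ = (u * y * u⁻¹) * (u * w ^ i * u⁻¹) := by group
            _ = y * w ^ (i + 1) := by
                rw [← conj_pow, hwc u, mul_inv_cancel_right, ← hy',
                  show y' = y * w by rw [hw, mul_inv_cancel_left], mul_assoc, ← pow_succ']
      have hwu := hit (orderOf u)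
      rw [pow_orderOf_eq_one, one_mul, inv_one, mul_one, left_eq_mul] at hwu
      have hw1 : w = 1 := by
        refine orderOf_eq_one_iff.1 (Nat.eq_one_of_dvd_coprimes hucop
          (orderOf_dvd_of_pow_eq_one hwu) (orderOf_dvd_of_pow_eq_one (by rw [pow_two, hw2])))
      rwa [hw, inv_mul_eq_one, eq_comm] at hw1
    refine ⟨isSolvable_of_hasNormalTwoComplement hodd
      (Transfer.hasNormalPComplement_of_local S fun Q hQ => hloc Q (S.2.to_le hQ)), ?_⟩
    refine Transfer.hasNormalPComplement_of_local default fun Q hQ u hu hucop => ?_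
    rw [mem_centralizer_iff]
    intro q hq
    apply Subtype.ext
    refine mem_centralizer_iff.1 (hloc (Q.map (Subgroup.subtype _))
      (((default : Sylow 2 _).2.to_le hQ).map _) (u : G)
      (le_normalizer_map _ (mem_map_of_mem _ hu)) (by rwa [Subgroup.orderOf_coe])) (q : G) ?_
    exact mem_map_of_mem _ hq
  · push Not at hinv
    obtain ⟨t, ht, htc⟩ := hinv
    -- a = 0
    have ha : a = 0 := by
      have htinv : t⁻¹ = t := inv_eq_of_mul_eq_one_right ht
      have htp : IsPGroup 2 (zpowers t) := by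
        obtain ⟨j, -, hj⟩ := (Nat.dvd_prime_pow Nat.prime_two).1
          (show orderOf t ∣ 2 ^ 1 from orderOf_dvd_of_pow_eq_one (by rw [pow_one, pow_two, ht]))
        exact IsPGroup.of_card (n := j) (by rw [Nat.card_zpowers, hj])
      obtain ⟨T, hT⟩ := htp.exists_le_sylow
      have hTC : (T : Subgroup G) ≤ centralizer ({t} : Set G) := fun z hz =>
        mem_centralizer_singleton_iff.2
          (hreal T T.2 t (hT (mem_zpowers t)) t (hT (mem_zpowers t))
            (by rw [mul_inv_cancel_right, htinv]) z hz)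
      rw [← h t (by rw [htinv]) htc]
      exact Nat.factorization_eq_zero_of_not_dvd fun hd =>
        T.not_dvd_index (hd.trans (index_dvd_of_le hTC))
    have hnr : NoRealOdd G := by
      intro x g hx hg
      by_cases hxc : x ∈ center G
      · rw [mem_center_iff.1 hxc g, mul_inv_cancel_right] at hg
        refine orderOf_eq_one_iff.1 (Nat.eq_one_of_dvd_coprimes (Nat.coprime_two_left.2 hx)
          (orderOf_dvd_of_pow_eq_one (by rw [pow_two]; nth_rewrite 1 [hg]; exact inv_mul_cancel x))
          dvd_rfl)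
      by_contra hx1
      have hne : x⁻¹ ≠ x := fun e => hx1 (orderOf_eq_one_iff.1
        (Nat.eq_one_of_dvd_coprimes (Nat.coprime_two_left.2 hx)
          (orderOf_dvd_of_pow_eq_one (by rw [pow_two]; nth_rewrite 1 [← e]; exact inv_mul_cancel x))
          dvd_rfl))
      let H : Subgroup G :=
        { carrier := {k | k * x * k⁻¹ = x ∨ k * x * k⁻¹ = x⁻¹}
          one_mem' := Or.inl (by simp)
          mul_mem' := fun {p q} hp hq => by
            show p * q * x * (p * q)⁻¹ = x ∨ p * q * x * (p * q)⁻¹ = x⁻¹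
            have e : p * q * x * (p * q)⁻¹ = p * (q * x * q⁻¹) * p⁻¹ := by group
            rcases hq with hq | hq <;> rcases hp with hp | hp
            · exact Or.inl (by rw [e, hq, hp])
            · exact Or.inr (by rw [e, hq, hp])
            · exact Or.inr (by rw [e, hq, ← conj_inv, hp])
            · exact Or.inl (by rw [e, hq, ← conj_inv, hp, inv_inv])
          inv_mem' := fun {p} hp => by
            show p⁻¹ * x * p⁻¹⁻¹ = x ∨ p⁻¹ * x * p⁻¹⁻¹ = x⁻¹
            rcases hp with hp | hp
            · have e : p⁻¹ * (p * x * p⁻¹) * p⁻¹⁻¹ = x := by group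
              rw [hp] at e
              exact Or.inl e
            · have e : p⁻¹ * (p * x * p⁻¹)⁻¹ * p⁻¹⁻¹ = x⁻¹ := by group
              rw [hp, inv_inv] at e
              exact Or.inr e }
      have hCH : centralizer ({x} : Set G) ≤ H := fun k hk =>
        Or.inl (by rw [mem_centralizer_singleton_iff.1 hk, mul_inv_cancel_right])
      have h2 : ((centralizer ({x} : Set G)).subgroupOf H).index = 2 := by
        rw [index_eq_two_iff]
        refine ⟨⟨g, Or.inr hg⟩, fun b => ?_⟩
        have mem : ∀ k : G, k ∈ centralizer ({x} : Set G) ↔ k * x * k⁻¹ = x := fun k => by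
          rw [mem_centralizer_singleton_iff, mul_inv_eq_iff_eq_mul]
        simp only [mem_subgroupOf, Subgroup.coe_mul, mem]
        have e : (b : G) * g * x * ((b : G) * g)⁻¹ = ((b : G) * x * (b : G)⁻¹)⁻¹ := by
          rw [conj_inv, ← hg]; group
        rw [e]
        rcases b.2 with hb | hb <;> rw [hb]
        · exact Or.inr ⟨rfl, hne⟩
        · exact Or.inl ⟨inv_inv x, hne⟩
      have hd2 : 2 ∣ (centralizer ({x} : Set G)).index := by
        rw [← Subgroup.relIndex_mul_index hCH, Subgroup.relIndex, h2]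
        exact dvd_mul_right _ _
      have h0 := h x (isConj_iff.2 ⟨g, hg⟩) hxc
      rw [ha] at h0
      exact absurd h0 (Nat.Prime.factorization_pos_of_dvd Nat.prime_two
        index_ne_zero_of_finite hd2).ne'
    set N := Cfsg.pCore 2 G with hN
    have hQodd := odd_card_quotient_pCore hnr
    have hNp := PLocal.isPGroup_pCore 2 G
    refine ⟨SolvCrit.isSolvable_of_normal_of_quotient N ?_ (hodd _ hQodd),
      hasNormalPComplement_of_isPGroup (hNp.to_le ((closure_le _).2 ?_))⟩
    · haveI : Group.IsNilpotent N := hNp.isNilpotent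
      infer_instance
    · rintro z ⟨k, hk⟩
      rw [SetLike.mem_coe, ← QuotientGroup.eq_one_iff, ← orderOf_eq_one_iff]
      exact Nat.eq_one_of_dvd_coprimes ((Nat.coprime_two_left.2 hQodd).pow_left k)
        (hk ▸ orderOf_map_dvd (QuotientGroup.mk' N) z) (orderOf_dvd_natCard _)

end CfsgLib.FT
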