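import Cfsg.Agent.FT.Basic
import Cfsg.Agent.RegOrbit.Main

/-!
# S4375 from the odd order theorem
-/

set_option autoImplicit false

namespace CfsgLib.FT

universe u

/-- An odd order completely reducible group has two vectors with trivial common stabilizer. -/
theorem exists_pair_trivial_stabilizer (hodd : OddSolvable.{u}) {A : Type u} {V : Type*} [Group A]
    [Finite A] [AddCommGroup V] [Finite V] [DistribMulAction A V] [FaithfulSMul A V]
    (hA : Odd (Nat.card A))
    (hcr : ∀ U : AddSubgroup V, (∀ a : A, ∀ v ∈ U, a • v ∈ U) →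
      ∃ W : AddSubgroup V, (∀ a : A, ∀ w ∈ W, a • w ∈ W) ∧ U ⊓ W = ⊥ ∧ U ⊔ W = ⊤) :
    ∃ v w : V, ∀ a : A, a • v = v → a • w = w → a = 1 :=
  RegOrbit.exists_pair_of_odd_solvable hA (hodd A hA) hcr

end CfsgLib.FT
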