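import Cfsg.Agent.FT.Basic
import Cfsg.Agent.HalfTransitive.PGroup
import Cfsg.Agent.Solvable.Fitting
import Mathlib.GroupTheory.SpecificGroups.ZGroup

/-!
# Odd order groups transitive on the nonzero vectors (S1161), from the odd order theorem
-/

set_option autoImplicit false
set_option linter.style.haveILetI false

namespace CfsgLib.FT

open Subgroup

universe u v

/-- An odd order group acting on an elementary abelian group with every normal subgroup having
stabilisers of constant order: the Fitting subgroup is cyclic and fixed-point-free. -/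
theorem fitting_cyclic_free {D : Type u} {E : Type v} [Group D] [Finite D] [AddCommGroup E]
    [Finite E] [DistribMulAction D E] [FaithfulSMul D E] (hodd : Odd (Nat.card D)) {q : ℕ}
    (hq : q.Prime) (hE : ∀ e : E, q • e = 0)
    (hconst : ∀ (R : Subgroup D), R.Normal → ∀ a b : E, a ≠ 0 → b ≠ 0 →
      Nat.card (MulAction.stabilizer R a) = Nat.card (MulAction.stabilizer R b)) :
    IsCyclic ↥(Cfsg.fittingSubgroup D) ∧
      (∀ g ∈ Cfsg.fittingSubgroup D, g ≠ 1 → ∀ a : E, g • a = a → a = 0) := by
  set F := Cfsg.fittingSubgroup D with hF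
  haveI : F.Normal := Solvable.fittingSubgroup_normal
  haveI : Group.IsNilpotent F := Solvable.fittingSubgroup_isNilpotent
  have hkey : ∀ (p : ℕ) [Fact p.Prime] (P : Sylow p F), IsCyclic (P : Subgroup F) ∧
      ∀ g ∈ (P : Subgroup F).map F.subtype, g ≠ 1 → ∀ a : E, g • a = a → a = 0 := by
    intro p _ P
    set R := (P : Subgroup F).map F.subtype
    haveI : (P : Subgroup F).Normal := inferInstance
    haveI : (P : Subgroup F).Characteristic := P.characteristic_of_normal inferInstance
    haveI hRn : R.Normal := inferInstance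
    by_cases hp2 : p = 2
    · subst hp2
      have h1 : (P : Subgroup F) = ⊥ := by
        refine Subgroup.card_eq_one.1 ?_
        obtain ⟨n, hn⟩ := IsPGroup.iff_card.1 P.2
        rcases n with _ | n
        · simpa using hn
        · have h2 : (2 : ℕ) ∣ Nat.card D :=
            ((dvd_pow_self 2 (Nat.succ_ne_zero n)).trans hn.symm.dvd).trans
              ((card_subgroup_dvd_card _).trans (card_subgroup_dvd_card _))
          exact absurd (even_iff_two_dvd.2 h2) (Nat.not_even_iff_odd.2 hodd)
      refine ⟨by rw [h1]; infer_instance, fun g hg hg1 => absurd ?_ hg1⟩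
      rw [show R = ⊥ by simp only [R, h1, Subgroup.map_bot], mem_bot] at hg
      exact hg
    obtain ⟨hc, hfree⟩ := HalfTransitive.isCyclic_and_free (P := R) (p := p) hp2 (P.2.map _)
      hq hE (hconst R hRn)
    refine ⟨((P : Subgroup F).equivMapOfInjective _ F.subtype_injective).isCyclic.2 hc,
      fun g hg hg1 a ha => hfree ⟨g, hg⟩ (fun e => hg1 (congrArg Subtype.val e)) a ha⟩
  have hcyc : IsCyclic F := by
    haveI : IsZGroup F := ⟨fun p hp P => by haveI := Fact.mk hp; exact (hkey p P).1⟩
    infer_instance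
  refine ⟨hcyc, fun g hg hg1 a ha => ?_⟩
  have ho : orderOf (⟨g, hg⟩ : F) ≠ 1 := fun e =>
    hg1 (congrArg Subtype.val (orderOf_eq_one_iff.1 e))
  obtain ⟨p, hp, k, hk⟩ := Nat.exists_prime_and_dvd ho
  haveI := Fact.mk hp
  have hk0 : k ≠ 0 := fun e => (orderOf_pos (⟨g, hg⟩ : F)).ne' (by rw [hk, e, mul_zero])
  set x : F := (⟨g, hg⟩ : F) ^ k
  have hx : orderOf x = p := by
    rw [orderOf_pow_of_dvd hk0 (hk ▸ dvd_mul_left k p), hk,
      Nat.mul_div_cancel _ (Nat.pos_of_ne_zero hk0)]
  obtain ⟨P, hP⟩ := IsPGroup.exists_le_sylow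
    (IsPGroup.of_card (n := 1) (show Nat.card (zpowers x) = p ^ 1 by
      rw [Nat.card_zpowers, hx, pow_one]))
  refine (hkey p P).2 (x : D) (mem_map_of_mem _ (hP (mem_zpowers x))) (fun e => ?_) a ?_
  · rw [show x = 1 from Subtype.ext e, orderOf_one] at hx
    exact hp.one_lt.ne hx
  · have : g ^ k ∈ MulAction.stabilizer D a := pow_mem (MulAction.mem_stabilizer_iff.2 ha) k
    exact MulAction.mem_stabilizer_iff.1 this

/-- S1161. -/
theorem transitive_odd_structure (hsolv : OddSolvable.{u}) {D : Type u} {E : Type v} [Group D]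
    [Finite D] [AddCommGroup E] [Finite E] [Nontrivial E] [DistribMulAction D E]
    [FaithfulSMul D E] (hodd : Odd (Nat.card D)) {q : ℕ} (hq : q.Prime)
    (hE : ∀ e : E, q • e = 0) (htrans : ∀ a b : E, a ≠ 0 → b ≠ 0 → ∃ d : D, d • a = b) :
    IsCyclic ↥(Cfsg.fittingSubgroup D) ∧
      (∀ g ∈ Cfsg.fittingSubgroup D, g ≠ 1 → ∀ a : E, g • a = a → a = 0) ∧
      commutator D ≤ Cfsg.fittingSubgroup D := by
  haveI := hsolv D hodd
  obtain ⟨hcyc, hfree⟩ := fitting_cyclic_free hodd hq hE fun R hR a b ha hb => by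
      haveI := hR
      obtain ⟨d, rfl⟩ := htrans a b ha hb
      refine Nat.card_congr (Equiv.subtypeEquiv (MulAut.conjNormal (H := R) d).toEquiv fun r => ?_)
      simp only [MulAction.mem_stabilizer_iff, MulEquiv.toEquiv_eq_coe, EquivLike.coe_coe,
        Subgroup.smul_def, MulAut.conjNormal_apply, mul_smul, inv_smul_smul]
      exact (smul_left_cancel_iff d).symm
  set F := Cfsg.fittingSubgroup D with hF
  haveI : F.Normal := Solvable.fittingSubgroup_normal
  haveI : IsCyclic F := hcyc
  refine ⟨hcyc, hfree, ?_⟩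
  refine le_trans ?_ (Solvable.centralizer_fittingSubgroup_le (G := D))
  let φ : D →* (ZMod (Nat.card F))ˣ :=
    (IsCyclic.mulAutMulEquiv F).toMonoidHom.comp (MulAut.conjNormal (H := F))
  intro d hd
  have h1 : φ d = 1 := Abelianization.commutator_subset_ker φ hd
  have h2 : MulAut.conjNormal (H := F) d = 1 :=
    (map_eq_one_iff _ (IsCyclic.mulAutMulEquiv F).injective).1 h1
  refine mem_centralizer_iff.2 fun f hf => ?_
  have h3 := congrArg Subtype.val (DFunLike.congr_fun h2 ⟨f, hf⟩)
  rw [MulAut.conjNormal_apply] at h3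
  exact (mul_inv_eq_iff_eq_mul.1 h3).symm

end CfsgLib.FT
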