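import Cfsg.Agent.FT.TransitiveLinear
import Cfsg.Agent.RegularLinear.Field
import Cfsg.Agent.Perm.RegularNormal
import Cfsg.Agent.PrimeGraph.Lucido
import Cfsg.Agent.S0735
import Cfsg.Prelude.Def_Perm

/-!
# Kantor: 2-homogeneous groups that are not 2-transitive (S0737), from the odd order theorem
-/

set_option autoImplicit false
set_option linter.style.haveILetI false

open scoped Pointwise

namespace CfsgLib.FT

universe u v

/-- An action by automorphisms of a `ZMod p`-module is linear. -/
def actLinear (p : ℕ) (D : Type*) (V : Type*) [Group D] [AddCommGroup V] [Module (ZMod p) V]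
    [DistribMulAction D V] : D →* (V ≃ₗ[ZMod p] V) where
  toFun d :=
    { toFun := fun v => d • v
      invFun := fun v => d⁻¹ • v
      map_add' := smul_add d
      map_smul' := fun c v => ZMod.map_smul (DistribSMul.toAddMonoidHom V d) c v
      left_inv := inv_smul_smul d
      right_inv := smul_inv_smul d }
  map_one' := LinearEquiv.ext fun v => one_smul D v
  map_mul' a b := LinearEquiv.ext fun v => mul_smul a b v

theorem actLinear_apply (p : ℕ) (D : Type*) (V : Type*) [Group D] [AddCommGroup V]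
    [Module (ZMod p) V] [DistribMulAction D V] (d : D) (v : V) : actLinear p D V d v = d • v := rfl

/-- The linear part: an odd order group with two orbits `O`, `-O` on the nonzero vectors is
semilinear over the field of that order. -/
theorem semilinear_of_two_orbits (hsolv : OddSolvable.{u}) {D : Type u} {V : Type v} [Group D]
    [Finite D] [AddCommGroup V] [Finite V] [Nontrivial V] [DistribMulAction D V] [FaithfulSMul D V]
    (hodd : Odd (Nat.card D)) {p : ℕ} [Fact p.Prime] (hp2 : p ≠ 2) (hV : ∀ v : V, p • v = 0)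
    (h : ∀ v w : V, v ≠ 0 → w ≠ 0 → ∃ d : D, d • v = w ∨ d • v = -w) :
    ∃ (f : ℕ) (e : V ≃+ GaloisField p f), Nat.card V = p ^ f ∧ p ^ f % 4 = 3 ∧
      ∀ d : D, ∃ (a : (GaloisField p f)ˣ) (σ : GaloisField p f ≃+* GaloisField p f),
        ∀ v : V, e (d • v) = a * σ (e v) := by
  classical
  have hp : p.Prime := Fact.out
  haveI := hsolv D hodd
  obtain ⟨_instModule⟩ : Nonempty (Module (ZMod p) V) := ⟨AddCommGroup.zmodModule hV⟩
  have hneg : ∀ v : V, v ≠ 0 → v ≠ -v := by
    intro v hv e
    refine hv (AddMonoid.addOrderOf_eq_one_iff.1 ?_)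
    have h2 : 2 • v = 0 := by rw [two_nsmul]; nth_rewrite 2 [e]; rw [add_neg_cancel]
    exact Nat.eq_one_of_dvd_coprimes ((Nat.coprime_primes Nat.prime_two hp).2 (Ne.symm hp2))
      (addOrderOf_dvd_of_nsmul_eq_zero h2) (addOrderOf_dvd_of_nsmul_eq_zero (hV v))
  have hflip : ∀ (d : D) (v : V), d • v = -v → v = 0 := by
    intro d v hdv
    by_contra hv
    have hev : ∀ n : ℕ, d ^ (2 * n) • v = v := fun n => by
      induction n with
      | zero => rw [mul_zero, pow_zero, one_smul]
      | succ n ih => rw [mul_add, mul_one, pow_add, mul_smul, pow_two, mul_smul, hdv, smul_neg,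
          hdv, neg_neg, ih]
    obtain ⟨n, hn⟩ := hodd
    have h2 := pow_card_eq_one' (G := D) (x := d)
    rw [hn, pow_succ] at h2
    have h3 : (d ^ (2 * n) * d) • v = v := by rw [h2, one_smul]
    rw [mul_smul, hdv, smul_neg, hev] at h3
    exact hneg v hv h3.symm
  -- normal subgroups have stabilisers of constant order
  have hconst : ∀ (R : Subgroup D), R.Normal → ∀ a b : V, a ≠ 0 → b ≠ 0 →
      Nat.card (MulAction.stabilizer R a) = Nat.card (MulAction.stabilizer R b) := by
    intro R hR a b ha hb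
    haveI := hR
    have key : ∀ (d : D) (a : V), Nat.card (MulAction.stabilizer R a) =
        Nat.card (MulAction.stabilizer R (d • a)) := by
      intro d a
      refine Nat.card_congr (Equiv.subtypeEquiv (MulAut.conjNormal (H := R) d).toEquiv fun r => ?_)
      simp only [MulAction.mem_stabilizer_iff, MulEquiv.toEquiv_eq_coe, EquivLike.coe_coe,
        Subgroup.smul_def, MulAut.conjNormal_apply, mul_smul, inv_smul_smul]
      exact (smul_left_cancel_iff d).symm
    obtain ⟨d, hd | hd⟩ := h a b ha hb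
    · rw [key d a, hd]
    · rw [key d a, hd]
      refine Nat.card_congr (Equiv.subtypeEquivRight fun r => ?_)
      simp only [MulAction.mem_stabilizer_iff, Subgroup.smul_def, smul_neg, neg_inj]
  obtain ⟨hcyc, hfree⟩ := fitting_cyclic_free hodd hp hV hconst
  set F := Cfsg.fittingSubgroup D with hF
  haveI : F.Normal := Solvable.fittingSubgroup_normal
  have hFcomm : ∀ a ∈ F, ∀ b ∈ F, a * b = b * a := fun a ha b hb => by
    letI := hcyc.commGroup
    exact congrArg Subtype.val (mul_comm (⟨a, ha⟩ : F) ⟨b, hb⟩)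
  -- the linear action, extended by the sign
  let L : D →* (V ≃ₗ[ZMod p] V) := actLinear p D V
  have hL : ∀ d v, L d v = d • v := fun d v => actLinear_apply p D V d v
  let sgn : ℤˣ →* (V ≃ₗ[ZMod p] V) :=
    { toFun := fun ε => if ε = 1 then 1 else LinearEquiv.neg (ZMod p)
      map_one' := if_pos rfl
      map_mul' := fun a b => by
        rcases Int.units_eq_one_or a with rfl | rfl <;> rcases Int.units_eq_one_or b with rfl | rfl <;>
          ext v <;> simp }
  have hsgn : sgn (-1) = LinearEquiv.neg (ZMod p) :=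
    show (if (-1 : ℤˣ) = 1 then (1 : V ≃ₗ[ZMod p] V) else LinearEquiv.neg (ZMod p)) = _ from
      if_neg (by decide)
  let ρ : D × ℤˣ →* (V ≃ₗ[ZMod p] V) :=
    L.noncommCoprod sgn fun d ε => by
      rcases Int.units_eq_one_or ε with rfl | rfl
      · rw [map_one]; exact Commute.one_right _
      · rw [hsgn]; exact LinearEquiv.ext fun v => by simp [LinearEquiv.mul_apply, hL, smul_neg]
  have hρ1 : ∀ d v, ρ (d, 1) v = d • v := fun d v => by
    simp only [ρ, MonoidHom.noncommCoprod_apply, map_one, mul_one, hL]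
  have hρm : ∀ d v, ρ (d, -1) v = -(d • v) := fun d v => by
    simp only [ρ, MonoidHom.noncommCoprod_apply, hsgn, LinearEquiv.mul_apply, LinearEquiv.neg_apply,
      hL, smul_neg]
  have hρinj : Function.Injective ρ := by
    rw [injective_iff_map_eq_one]
    rintro ⟨d, ε⟩ hd
    rcases Int.units_eq_one_or ε with rfl | rfl
    · refine Prod.ext (eq_of_smul_eq_smul fun v : V => ?_) rfl
      show d • v = (1 : D) • v
      rw [← hρ1, hd, LinearEquiv.coe_one, id, one_smul]
    · obtain ⟨v, hv⟩ := exists_ne (0 : V)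
      have h1 : -(d • v) = v := by rw [← hρm, hd]; rfl
      exact absurd (hflip d v (neg_eq_iff_eq_neg.1 h1)) hv
  have htr : ∀ v w : V, v ≠ 0 → w ≠ 0 → ∃ g, ρ g v = w := by
    intro v w hv hw
    obtain ⟨d, hd | hd⟩ := h v w hv hw
    · exact ⟨(d, 1), by rw [hρ1, hd]⟩
    · exact ⟨(d, -1), by rw [hρm, hd, neg_neg]⟩
  let A : Subgroup (D × ℤˣ) := F.prod ⊥
  haveI : A.Normal := Subgroup.prod_normal F ⊥
  have hA : ∀ a ∈ A, ∀ b ∈ A, a * b = b * a := fun a ha b hb =>
    Prod.ext (hFcomm _ ha.1 _ hb.1) (mul_comm _ _)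
  obtain ⟨K, fK, hKfin, mK, χ, τ, f, hf, hK, hautK, hχ, -, hsemi, hτ⟩ :=
    RegLinear.exists_field_data ρ hρinj htr A hA
  have hFle : Nat.card F + 1 ≤ Nat.card K := by
    haveI : Fintype K := Fintype.ofFinite K
    have h1 : Nat.card F ≤ Nat.card Kˣ := by
      refine Nat.card_le_card_of_injective (fun x : F => χ ⟨((x : D), 1), x.2, rfl⟩) fun x y e => ?_
      exact Subtype.ext (congrArg Prod.fst (congrArg Subtype.val (hχ e)))
    have h2 := Nat.card_units K
    have h3 : 0 < Nat.card K := Nat.card_pos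
    omega
  haveI : Finite (K ≃+* K) := Finite.of_injective _ DFunLike.coe_injective
  let τD : D →* (K ≃+* K) := τ.comp (MonoidHom.inl D ℤˣ)
  have hker : τD.ker ≤ F := by
    intro d hd
    refine Solvable.centralizer_fittingSubgroup_le (Subgroup.mem_centralizer_iff.2 fun a ha => ?_)
    have := congrArg Prod.fst ((hτ (d, 1)).1 hd (a, 1) ⟨ha, rfl⟩)
    exact this.symm
  have hDle : Nat.card D ≤ f * Nat.card F := by
    rw [← τD.ker.index_mul_card, Subgroup.index_ker]
    exact Nat.mul_le_mul (hautK ▸ Nat.card_le_card_of_injective _ Subtype.val_injective)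
      (Nat.le_of_dvd Nat.card_pos (Subgroup.card_dvd_of_le hker))
  -- the orbit of a nonzero vector is half of the nonzero vectors
  obtain ⟨v₀, hv₀⟩ := exists_ne (0 : V)
  set O := MulAction.orbit D v₀
  have hmove : ∀ d : D, d • v₀ ≠ 0 := fun d e => hv₀ ((smul_eq_zero_iff_eq d).1 e)
  have hcardV : Nat.card V = 2 * Nat.card O + 1 := by
    have hOn : Nat.card O = O.ncard := Nat.card_coe_set_eq O
    have hdisj : Disjoint O (Neg.neg '' O) := by
      rw [Set.disjoint_left]
      rintro _ ⟨d, rfl⟩ ⟨_, ⟨d', rfl⟩, e⟩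
      refine hv₀ (hflip (d'⁻¹ * d) v₀ ?_)
      rw [mul_smul, show d • v₀ = -(d' • v₀) from e.symm, smul_neg, inv_smul_smul]
    have hun : O ∪ Neg.neg '' O = {0}ᶜ := by
      ext w
      constructor
      · rintro (⟨d, rfl⟩ | ⟨_, ⟨d, rfl⟩, rfl⟩)
        · exact hmove d
        · exact neg_ne_zero.2 (hmove d)
      · intro hw
        obtain ⟨d, hd | hd⟩ := h v₀ w hv₀ hw
        · exact Or.inl ⟨d, hd⟩
        · exact Or.inr ⟨d • v₀, ⟨d, rfl⟩, by rw [hd, neg_neg]⟩
    have := Set.ncard_add_ncard_compl ({0} : Set V)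
    rw [← hun, Set.ncard_union_eq hdisj, Set.ncard_image_of_injective _ neg_injective,
      Set.ncard_singleton] at this
    omega
  have hOdvd : Nat.card O ∣ Nat.card D := by
    rw [Nat.card_congr (MulAction.orbitEquivQuotientStabilizer D v₀)]
    exact Subgroup.index_dvd_card _
  -- the space is a line
  haveI : Module.Finite K V := Module.Finite.of_finite
  set k := Module.finrank K V
  have hVK : Nat.card V = Nat.card K ^ k := Module.natCard_eq_pow_finrank
  have hk1 : k = 1 := by
    have hq : 3 ^ f ≤ Nat.card K := by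
      rw [hK]
      exact Nat.pow_le_pow_left (by have := hp.two_le; omega) f
    have h3 : 2 * f < 3 ^ f := by
      clear hK hautK hDle hq
      induction f, hf using Nat.le_induction with
      | base => norm_num
      | succ m hm ih => rw [pow_succ]; omega
    have hk0 : k ≠ 0 := by
      intro e
      rw [e, pow_zero] at hVK
      exact absurd hVK Finite.one_lt_card.ne'
    by_contra hk
    have hsq : Nat.card K ^ 2 ≤ Nat.card V :=
      hVK ▸ Nat.pow_le_pow_right Nat.card_pos (by omega)
    have hO := (Nat.le_of_dvd Nat.card_pos hOdvd).trans hDle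
    nlinarith
  rw [hk1, pow_one] at hVK
  have hmod : p ^ f % 4 = 3 := by
    rw [← hK, ← hVK, hcardV]
    obtain ⟨m, hm⟩ := hodd.of_dvd_nat hOdvd
    omega
  -- coordinates
  haveI : Fintype K := Fintype.ofFinite K
  haveI : Fintype (GaloisField p f) := Fintype.ofFinite _
  let E : K ≃+* GaloisField p f := FiniteField.ringEquivOfCardEq (by
    rw [← Nat.card_eq_fintype_card, ← Nat.card_eq_fintype_card, hK, GaloisField.card p f (by omega)])
  have hbij : Function.Bijective (fun x : K => x • v₀) :=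
    (Nat.bijective_iff_injective_and_card _).2 ⟨smul_left_injective K hv₀, hVK.symm⟩
  let e₀ : K ≃+ V :=
    AddEquiv.ofBijective (AddMonoidHom.mk' (fun x : K => x • v₀) fun a b => add_smul a b v₀) hbij
  have he₀ : ∀ x, e₀ x = x • v₀ := fun x => rfl
  refine ⟨f, e₀.symm.trans E.toAddEquiv, by rw [hVK, hK], hmod, fun d => ?_⟩
  have hne : E (e₀.symm (d • v₀)) ≠ 0 := by
    rw [map_ne_zero_iff _ E.injective, map_ne_zero_iff _ e₀.symm.injective]
    exact hmove d
  refine ⟨Units.mk0 _ hne, E.symm.trans ((τ (d, 1)).trans E), fun v => ?_⟩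
  obtain ⟨x, rfl⟩ := e₀.surjective v
  have h1 : d • e₀ x = e₀ (τ (d, 1) x * e₀.symm (d • v₀)) := by
    have h2 := hsemi (d, 1) x v₀
    rw [hρ1, hρ1] at h2
    rw [he₀, he₀, mul_smul, h2, ← he₀ (e₀.symm (d • v₀)), e₀.apply_symm_apply]
  simp only [h1, AddEquiv.trans_apply, e₀.symm_apply_apply, RingEquiv.toAddEquiv_eq_coe,
    RingEquiv.coe_toAddEquiv, Units.val_mk0, RingEquiv.trans_apply, map_mul, RingEquiv.symm_apply_apply]
  exact mul_comm _ _

/-- Kantor's theorem. -/
theorem two_homogeneous_not_two_transitive (hsolv : OddSolvable.{u}) {α : Type u} [Fintype α]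
    [DecidableEq α] (G : Subgroup (Equiv.Perm α)) (hne : G ≠ ⊥)
    (h2 : MulAction.IsPretransitive G (Set.powersetCard α 2))
    (hn2 : ¬ MulAction.IsMultiplyPretransitive G α 2) :
    Odd (Nat.card G) ∧ ∃ (p f : ℕ) (_ : Fact p.Prime), p ≠ 2 ∧ Fintype.card α = p ^ f ∧
      p ^ f % 4 = 3 ∧ ∃ e : α ≃ GaloisField p f,
        (∀ g : G, e.symm.trans (((g : Equiv.Perm α)).trans e) ∈
          Cfsg.semiaffineGroup (GaloisField p f)) ∧
        ∀ b : GaloisField p f, ∃ g : G, ∀ x : α, e ((g : Equiv.Perm α) x) = e x + b := by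
  classical
  obtain ⟨g₀, hg₀⟩ : ∃ g : G, g ≠ 1 := Subgroup.ne_bot_iff_exists_ne_one.1 hne
  have hα : 3 ≤ Fintype.card α := by
    by_contra! hlt
    obtain ⟨u, hu⟩ : ∃ u : α, g₀ • u ≠ u := by
      by_contra! hall
      exact hg₀ (Subtype.ext (Equiv.ext hall))
    have huniv : ∀ x, x = u ∨ x = g₀ • u := fun x => by
      by_contra! hx
      have := Finset.card_le_univ ({x, u, g₀ • u} : Finset α)
      rw [Finset.card_insert_of_notMem (by simp [hx.1, hx.2]), Finset.card_insert_of_notMem
        (by simp [Ne.symm hu]), Finset.card_singleton] at this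
      omega
    have huu : g₀ • (g₀ • u) = u := by
      rcases huniv (g₀ • (g₀ • u)) with e | e
      · exact e
      · exact absurd (MulAction.injective g₀ e) hu
    apply hn2
    rw [MulAction.is_two_pretransitive_iff]
    intro a b c d hab hcd
    rcases huniv a with rfl | rfl <;> rcases huniv b with rfl | rfl <;>
      rcases huniv c with rfl | rfl <;> rcases huniv d with rfl | rfl <;>
      first
        | exact absurd rfl hab
        | exact absurd rfl hcd
        | exact ⟨1, one_smul _ _, one_smul _ _⟩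
        | exact ⟨g₀, rfl, huu⟩
        | exact ⟨g₀, huu, rfl⟩
  obtain ⟨hev, hprim⟩ := Cfsg.Agent.S0735.result G h2 hα
  haveI := hprim hne
  have hodd : Odd (Nat.card G) := Nat.not_even_iff_odd.1 fun he => hn2 (hev he)
  haveI : Nontrivial G := ⟨⟨g₀, 1, hg₀⟩⟩
  obtain ⟨N, p, hp, hNn, hN1, hNc, hNp⟩ := PrimeGraph.exists_normal_elementary (hsolv G hodd)
  haveI := Fact.mk hp
  haveI := hNn
  have hfix : MulAction.fixedPoints N α ≠ Set.univ := by
    intro e
    obtain ⟨n, hn⟩ := Subgroup.ne_bot_iff_exists_ne_one.1 hN1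
    refine hn (Subtype.ext (Subtype.ext (Equiv.ext fun x => ?_)))
    have hx : x ∈ MulAction.fixedPoints N α := e ▸ Set.mem_univ x
    exact hx n
  haveI hNtr : MulAction.IsPretransitive N α :=
    MulAction.IsQuasiPreprimitive.isPretransitive_of_normal hfix
  have hreg : ∀ (n : N) (x : α), n • x = x → n = 1 := fun n x hn => by
    refine Subtype.ext (Subtype.ext (Equiv.ext fun y => ?_))
    obtain ⟨m, rfl⟩ := MulAction.exists_smul_eq N x y
    show n • (m • x) = m • x
    rw [smul_smul, show n * m = m * n from Subtype.ext (hNc _ n.2 _ m.2), mul_smul, hn]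
  obtain ⟨a⟩ : Nonempty α := Fintype.card_pos_iff.1 (by omega)
  have hbij : Function.Bijective (fun n : N => n • a) :=
    ⟨fun m n e => by
      have := hreg (n⁻¹ * m) a (by rw [mul_smul, show m • a = n • a from e, inv_smul_smul])
      exact (inv_mul_eq_one.1 this).symm,
    fun x => MulAction.exists_smul_eq N a x⟩
  let φ : N ≃ α := Equiv.ofBijective _ hbij
  have hφ : ∀ n, φ n = n • a := fun n => rfl
  letI : CommGroup N := { (inferInstance : Group N) with
    mul_comm := fun x y => Subtype.ext (hNc _ x.2 _ y.2) }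
  set D := MulAction.stabilizer G a with hD
  let cj : D →* MulAut N := (MulAut.conjNormal (H := N)).comp D.subtype
  letI : DistribMulAction D (Additive N) :=
    { smul := fun d v => Additive.ofMul (cj d v.toMul)
      one_smul := fun v => by show Additive.ofMul (cj 1 v.toMul) = v; rw [map_one]; rfl
      mul_smul := fun d d' v => by
        show Additive.ofMul (cj (d * d') v.toMul) = Additive.ofMul (cj d (cj d' v.toMul))
        rw [map_mul]; rfl
      smul_zero := fun d => congrArg Additive.ofMul (map_one (cj d))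
      smul_add := fun d v w => congrArg Additive.ofMul (map_mul (cj d) v.toMul w.toMul) }
  -- the action of `D` on `α` in coordinates
  have hcj : ∀ (d : D) (n : N), ((d : G) • φ n) = φ (cj d n) := fun d n => by
    show (d : G) • ((n : G) • a) = (((d : G) * (n : G) * (d : G)⁻¹)) • a
    rw [← mul_smul]
    rw [mul_smul _ (d : G)⁻¹, MulAction.mem_stabilizer_iff.1 (inv_mem d.2)]
  haveI : FaithfulSMul D (Additive N) := ⟨fun {d d'} e => by
    refine Subtype.ext (Subtype.ext (Equiv.ext fun x => ?_))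
    obtain ⟨n, rfl⟩ := φ.surjective x
    show (d : G) • φ n = (d' : G) • φ n
    rw [hcj, hcj, show cj d n = cj d' n from congrArg Additive.toMul (e (Additive.ofMul n))]⟩
  haveI : Nontrivial (Additive N) := (Subgroup.nontrivial_iff_ne_bot N).2 hN1
  have hp2 : p ≠ 2 := by
    rintro rfl
    obtain ⟨n, hn⟩ := Subgroup.ne_bot_iff_exists_ne_one.1 hN1
    have hdvd : orderOf (n : G) ∣ 2 := orderOf_dvd_of_pow_eq_one (hNp _ n.2)
    rcases (Nat.dvd_prime Nat.prime_two).1 hdvd with e | e
    · exact hn (Subtype.ext (orderOf_eq_one_iff.1 e))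
    · exact Nat.not_even_iff_odd.2 hodd (even_iff_two_dvd.2 (e ▸ orderOf_dvd_natCard (n : G)))
  have horb : ∀ v w : Additive N, v ≠ 0 → w ≠ 0 → ∃ d : D, d • v = w ∨ d • v = -w := by
    intro v w hv hw
    have hva : φ v.toMul ≠ a := fun e => hv (congrArg Additive.ofMul (hreg _ a e))
    have hwa : φ w.toMul ≠ a := fun e => hw (congrArg Additive.ofMul (hreg _ a e))
    obtain ⟨g, hg⟩ := h2.exists_smul_eq
      (⟨({a, φ v.toMul} : Finset α), Finset.card_pair (Ne.symm hva)⟩ : Set.powersetCard α 2)
      ⟨({a, φ w.toMul} : Finset α), Finset.card_pair (Ne.symm hwa)⟩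
    have hg' : g • ({a, φ v.toMul} : Finset α) = {a, φ w.toMul} := congrArg Subtype.val hg
    have m1 : g • a ∈ ({a, φ w.toMul} : Finset α) :=
      hg' ▸ Finset.smul_mem_smul_finset (by simp)
    have m2 : g • φ v.toMul ∈ ({a, φ w.toMul} : Finset α) :=
      hg' ▸ Finset.smul_mem_smul_finset (by simp)
    have hne' : g • a ≠ g • φ v.toMul := fun e => hva (MulAction.injective g e).symm
    simp only [Finset.mem_insert, Finset.mem_singleton] at m1 m2
    rcases m1 with m1 | m1
    · refine ⟨⟨g, m1⟩, Or.inl ?_⟩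
      have h3 := m2.resolve_left fun e => hne' (m1.trans e.symm)
      rw [show g • φ v.toMul = _ from hcj ⟨g, m1⟩ v.toMul] at h3
      exact congrArg Additive.ofMul (φ.injective h3)
    · have h3 := m2.resolve_right fun e => hne' (m1.trans e.symm)
      refine ⟨⟨(w.toMul : G)⁻¹ * g, ?_⟩, Or.inr ?_⟩
      · rw [MulAction.mem_stabilizer_iff, mul_smul, m1, hφ]
        exact inv_smul_smul (w.toMul : G) a
      · apply congrArg Additive.ofMul
        refine φ.injective ((hcj ⟨_, _⟩ v.toMul).symm.trans ?_)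
        show ((w.toMul : G)⁻¹ * g) • φ v.toMul = φ (w.toMul)⁻¹
        rw [mul_smul, h3, hφ]
        rfl
  obtain ⟨f, e₁, hcard, hmod, hsl⟩ := semilinear_of_two_orbits hsolv
    (hodd.of_dvd_nat (Subgroup.card_subgroup_dvd_card D)) hp2
    (fun v : Additive N => congrArg Additive.ofMul (Subtype.ext (hNp _ v.toMul.2) : v.toMul ^ p = 1))
    horb
  let e : α ≃ GaloisField p f := φ.symm.trans (Additive.ofMul.trans e₁.toEquiv)
  have heφ : ∀ n : N, e (φ n) = e₁ (Additive.ofMul n) := fun n => by
    show e₁ (Additive.ofMul (φ.symm (φ n))) = _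
    rw [φ.symm_apply_apply]
  have hadd : ∀ (n : N) (x : α), e (n • x) = e x + e₁ (Additive.ofMul n) := fun n x => by
    obtain ⟨m, rfl⟩ := φ.surjective x
    rw [hφ, smul_smul, ← hφ, ← hφ, heφ, heφ, ← map_add, mul_comm]
    rfl
  refine ⟨hodd, p, f, inferInstance, hp2, ?_, hmod, e, fun g => ?_, fun b => ?_⟩
  · rw [← Nat.card_eq_fintype_card, ← hcard]
    exact (Nat.card_congr (φ.symm.trans Additive.ofMul))
  · obtain ⟨n, hn⟩ := φ.surjective (g • a)
    have hd : (n : G)⁻¹ * g ∈ D := by
      rw [MulAction.mem_stabilizer_iff, mul_smul, ← hn, hφ]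
      exact inv_smul_smul (n : G) a
    obtain ⟨c, σ, hσ⟩ := hsl ⟨_, hd⟩
    refine ⟨c, e₁ (Additive.ofMul n), σ, fun y => ?_⟩
    obtain ⟨x, rfl⟩ := e.surjective y
    obtain ⟨m, rfl⟩ := φ.surjective x
    rw [Equiv.trans_apply, e.symm_apply_apply, Equiv.trans_apply]
    show e (g • φ m) = _
    rw [show g • φ m = n • (((⟨_, hd⟩ : D) : G) • φ m) from by
      show g • φ m = (n : G) • (((n : G)⁻¹ * g) • φ m)
      rw [← mul_smul, mul_inv_cancel_left], hcj, hadd, heφ, heφ]
    exact congrArg (· + _) (hσ (Additive.ofMul m))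
  · obtain ⟨n, hn⟩ := (Additive.ofMul.trans e₁.toEquiv).surjective b
    refine ⟨(n : G), fun x => ?_⟩
    show e (n • x) = _
    rw [hadd, ← hn]
    rfl

end CfsgLib.FT
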